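import Mathlib.RingTheory.Regular.RegularSequence
import Mathlib.RingTheory.Regular.Flat
import Mathlib.RingTheory.Noetherian.Basic
import Mathlib.Tactic.LinearCombination

/-!
# Approximation of compatible families modulo powers of an element
-/

set_option autoImplicit false

universe u

open RingTheory.Sequence
open scoped Pointwise

namespace Groth.Agent.PurityLef21

variable {R : Type u} [CommRing R] {d : ℕ} (y : Fin d → R)

/-- Three elements of `(y)` forming a weakly regular sequence. -/
structure Triple where
  lam : Fin d → R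
  mu : Fin d → R
  nu : Fin d → R
  reg₁ : ∀ c, (∑ i, lam i * y i) * c = 0 → c = 0
  reg₂ : ∀ c c', (∑ i, lam i * y i) * c' = (∑ i, mu i * y i) * c → (∑ i, lam i * y i) ∣ c
  reg₃ : ∀ c d' e, (∑ i, nu i * y i) * c + (∑ i, mu i * y i) * d' + (∑ i, lam i * y i) * e = 0 →
    ∃ p q, c = (∑ i, mu i * y i) * p + (∑ i, lam i * y i) * q

variable {y} (T : Triple y)

theorem contract (l : Fin d → R) (t : Fin d → R) (i : Fin d) :
    (∑ j, l j * y j) * t i - y i * ∑ j, l j * t j = ∑ j, l j * (y j * t i - y i * t j) := by
  rw [Finset.sum_mul, Finset.mul_sum, ← Finset.sum_sub_distrib]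
  exact Finset.sum_congr rfl fun j _ => by ring

include T

theorem eq_zero_of_forall_mul (a : R) (h : ∀ i, y i * a = 0) : a = 0 := by
  refine T.reg₁ a ?_
  rw [Finset.sum_mul]
  exact Finset.sum_eq_zero fun i _ => by rw [mul_assoc, h, mul_zero]

/-- Compatible families come from an element. -/
theorem exists_of_compat (t : Fin d → R) (h : ∀ i j, y j * t i = y i * t j) : ∃ a, ∀ i, t i = y i * a := by
  have key : ∀ (l : Fin d → R) i, (∑ j, l j * y j) * t i = y i * ∑ j, l j * t j := fun l i => by
    rw [← sub_eq_zero, contract]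
    exact Finset.sum_eq_zero fun j _ => by rw [h, sub_self, mul_zero]
  obtain ⟨a, ha⟩ := T.reg₂ (∑ j, T.lam j * t j) (∑ j, T.mu j * t j) (sub_eq_zero.1 (eq_zero_of_forall_mul T _ fun i => by
    linear_combination (∑ j, T.mu j * y j) * (key T.lam i) - (∑ j, T.lam j * y j) * (key T.mu i)))
  exact ⟨a, fun i => sub_eq_zero.1 (T.reg₁ _ (by linear_combination key T.lam i + y i * ha))⟩

/-- Koszul cocycles in degree two are coboundaries. -/
theorem exists_of_cocycle (c : Fin d → Fin d → R)
    (h : ∀ i j l, y l * c i j - y j * c i l + y i * c j l = 0) :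
    ∃ β : Fin d → R, ∀ i j, c i j = y j * β i - y i * β j := by
  let x := ∑ j, T.lam j * y j
  let s : Fin d → R := fun i => ∑ l, T.lam l * c i l
  have hs : ∀ i j, x * c i j = y j * s i - y i * s j := fun i j => by
    have h0 : (∑ l, T.lam l * (y l * c i j - y j * c i l + y i * c j l)) = 0 :=
      Finset.sum_eq_zero fun l _ => by rw [h, mul_zero]
    have h1 : (∑ l, T.lam l * (y l * c i j - y j * c i l + y i * c j l)) = x * c i j - y j * s i + y i * s j := by
      simp only [x, s, Finset.sum_mul, Finset.mul_sum, ← Finset.sum_sub_distrib, ← Finset.sum_add_distrib]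
      exact Finset.sum_congr rfl fun l _ => by ring
    linear_combination h0 - h1
  have key : ∀ (l : Fin d → R) i, ∃ e, (∑ j, l j * y j) * s i - y i * ∑ j, l j * s j = x * e := fun l i =>
    ⟨∑ j, l j * c i j, by
      rw [contract, Finset.mul_sum]
      exact Finset.sum_congr rfl fun j _ => by linear_combination -(l j) * hs i j⟩
  let z := ∑ j, T.mu j * y j
  let w := ∑ j, T.nu j * y j
  let S := ∑ j, T.mu j * s j
  let S' := ∑ j, T.nu j * s j
  obtain ⟨e', he'⟩ : ∃ e, w * S - z * S' = x * e := ⟨∑ i, ∑ j, T.nu i * (T.mu j * c j i), by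
    have e1 : w * S - z * S' = ∑ i, ∑ j, T.nu i * (T.mu j * (y i * s j - y j * s i)) := by
      simp only [w, z, S, S']
      rw [Finset.sum_mul_sum, Finset.sum_mul_sum,
        Finset.sum_comm (f := fun i j => T.mu i * y i * (T.nu j * s j)), ← Finset.sum_sub_distrib]
      refine Finset.sum_congr rfl fun i _ => ?_
      rw [← Finset.sum_sub_distrib]
      exact Finset.sum_congr rfl fun j _ => by ring
    rw [e1, Finset.mul_sum]
    refine Finset.sum_congr rfl fun i _ => ?_
    rw [Finset.mul_sum]
    exact Finset.sum_congr rfl fun j _ => by linear_combination -(T.nu i * T.mu j) * hs j i⟩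
  obtain ⟨b, q, hS⟩ := T.reg₃ S (-S') (-e') (by linear_combination he')
  have hβ : ∀ i, ∃ β, s i = y i * b + x * β := fun i => by
    obtain ⟨e, he⟩ := key T.mu i
    obtain ⟨β, hβ⟩ := T.reg₂ (s i - y i * b) (e + y i * q) (by linear_combination -he - y i * hS)
    exact ⟨β, by linear_combination hβ⟩
  choose β hβ using hβ
  exact ⟨β, fun i j => sub_eq_zero.1 (T.reg₁ _ (by linear_combination hs i j + y j * hβ i - y i * hβ j))⟩

variable (f : R) {e k : ℕ} (he : e ≤ k) (htor : ∀ r, f ^ k * r = 0 → f ^ e * r = 0)

include he htor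

/-- Elements killing to the `k`-th power off `V(y)` are divisible by a slightly smaller power. -/
theorem dvd_of_forall_mul (a : R) (h : ∀ i, f ^ k ∣ y i * a) : f ^ (k - e) ∣ a := by
  choose c hc using h
  obtain ⟨a', ha'⟩ := exists_of_compat T (fun i => f ^ e * c i) fun i j => by
    have h0 : f ^ k * (y j * c i - y i * c j) = 0 := by linear_combination -(y j) * hc i + y i * hc j
    linear_combination htor _ h0
  have hk : f ^ k = f ^ (k - e) * f ^ e := by rw [← pow_add, Nat.sub_add_cancel he]
  exact ⟨a', sub_eq_zero.1 (eq_zero_of_forall_mul T _ fun i => by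
    linear_combination hc i + c i * hk + f ^ (k - e) * ha' i)⟩

/-- Families compatible modulo a power come from an element modulo a slightly smaller power. -/
theorem exists_approx_of_compat (t : Fin d → R) (h : ∀ i j, f ^ k ∣ y j * t i - y i * t j) :
    ∃ a, ∀ i, f ^ (k - e) ∣ y i * a - t i := by
  choose c hc using h
  have hk : f ^ k = f ^ (k - e) * f ^ e := by rw [← pow_add, Nat.sub_add_cancel he]
  obtain ⟨β, hβ⟩ := exists_of_cocycle T (fun i j => f ^ e * c i j) fun i j l => by
    have h0 : f ^ k * (y l * c i j - y j * c i l + y i * c j l) = 0 := by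
      linear_combination -(y l) * hc i j + y j * hc i l - y i * hc j l
    linear_combination htor _ h0
  obtain ⟨a, ha⟩ := exists_of_compat T (fun i => t i - f ^ (k - e) * β i) fun i j => by
    linear_combination hc i j + c i j * hk + f ^ (k - e) * hβ i j
  exact ⟨a, fun i => ⟨-β i, by linear_combination -(ha i)⟩⟩

end Groth.Agent.PurityLef21
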