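import Groth.Agent.PurityLef21.GrFree
import Groth.Agent.PurityLef21.Koszul
import Groth.Agent.GlueCompl21.Scheme

/-!
# Extension of covers of a punctured spectrum along an element, in depth three
-/

set_option autoImplicit false
set_option backward.isDefEq.respectTransparency false
set_option linter.style.haveILetI false

universe u

open CategoryTheory CategoryTheory.Limits AlgebraicGeometry TopologicalSpace Opposite
open RingTheory.Sequence
open scoped Pointwise TensorProduct

noncomputable section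

namespace Groth.Agent.PurityLef21

open GrothLib.FEt21 (restrictCompIso)

section Reg
variable {A : Type u} [CommRing A]

theorem isWeaklyRegular_of_exact {M M₂ M₃ : Type u} [AddCommGroup M] [Module A M] [AddCommGroup M₂]
    [Module A M₂] [AddCommGroup M₃] [Module A M₃] (rs : List A) (f : M →ₗ[A] M₂) (g : M₂ →ₗ[A] M₃)
    (hf : Function.Injective f) (hg : Function.Surjective g) (hex : Function.Exact f g)
    (h1 : IsWeaklyRegular M rs) (h3 : IsWeaklyRegular M₃ rs) : IsWeaklyRegular M₂ rs := by
  induction rs generalizing M M₂ M₃ with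
  | nil => exact IsWeaklyRegular.nil A M₂
  | cons r rs ih =>
    rw [isWeaklyRegular_cons_iff] at h1 h3 ⊢
    refine ⟨isSMulRegular_of_range_eq_ker hf (LinearMap.exact_iff.1 hex).symm h1.1 h3.1,
      ih (QuotSMulTop.map r f) (QuotSMulTop.map r g) ?_ (QuotSMulTop.map_surjective r hg)
        (QuotSMulTop.map_exact r hex hg) h1.2 h3.2⟩
    rw [injective_iff_map_eq_zero]
    intro x hx
    obtain ⟨x, rfl⟩ := Submodule.Quotient.mk_surjective _ x
    rw [show QuotSMulTop.map r f (Submodule.Quotient.mk x) = Submodule.Quotient.mk (f x) from rfl,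
      Submodule.Quotient.mk_eq_zero, Submodule.mem_smul_pointwise_iff_exists] at hx
    obtain ⟨y, -, hy⟩ := hx
    have hy0 : g y = 0 := h3.1 (show r • g y = r • 0 by
      rw [smul_zero, ← map_smul, hy, hex.apply_apply_eq_zero])
    obtain ⟨w, rfl⟩ := (hex y).1 hy0
    rw [← map_smul] at hy
    rw [Submodule.Quotient.mk_eq_zero, Submodule.mem_smul_pointwise_iff_exists]
    exact ⟨w, trivial, hf hy⟩

/-- Powers of a weakly regular sequence are weakly regular. -/
theorem isWeaklyRegular_pow {M : Type u} [AddCommGroup M] [Module A M] (n : ℕ) (rs : List A)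
    (h : IsWeaklyRegular M rs) : IsWeaklyRegular M (rs.map (· ^ (n + 1))) := by
  induction rs generalizing M with
  | nil => exact IsWeaklyRegular.nil A M
  | cons r rs ih =>
    rw [isWeaklyRegular_cons_iff] at h
    rw [List.map_cons, isWeaklyRegular_cons_iff]
    refine ⟨h.1.pow (n + 1), ?_⟩
    suffices ∀ k : ℕ, IsWeaklyRegular (QuotSMulTop (r ^ (k + 1)) M) (rs.map (· ^ (n + 1))) from this n
    intro k
    induction k with
    | zero => rw [zero_add, pow_one]; exact ih h.2
    | succ k ihk =>
      let f : QuotSMulTop (r ^ (k + 1)) M →ₗ[A] QuotSMulTop (r ^ (k + 1 + 1)) M :=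
        Submodule.mapQ _ _ (LinearMap.lsmul A M r) (fun x hx => by
          obtain ⟨y, -, rfl⟩ := (Submodule.mem_smul_pointwise_iff_exists _ _ _).1 hx
          refine (Submodule.mem_smul_pointwise_iff_exists _ _ _).2 ⟨y, trivial, ?_⟩
          rw [LinearMap.lsmul_apply, smul_smul, ← pow_succ'])
      let g : QuotSMulTop (r ^ (k + 1 + 1)) M →ₗ[A] QuotSMulTop r M :=
        Submodule.factor (fun x hx => by
          obtain ⟨y, -, rfl⟩ := (Submodule.mem_smul_pointwise_iff_exists _ _ _).1 hx
          refine (Submodule.mem_smul_pointwise_iff_exists _ _ _).2 ⟨r ^ (k + 1) • y, trivial, ?_⟩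
          rw [smul_smul, ← pow_succ'])
      refine isWeaklyRegular_of_exact _ f g ?_ (Submodule.factor_surjective _) ?_ ihk (ih h.2)
      · rw [injective_iff_map_eq_zero]
        intro x hx
        obtain ⟨x, rfl⟩ := Submodule.Quotient.mk_surjective _ x
        rw [show f (Submodule.Quotient.mk x) = Submodule.Quotient.mk (r • x) from rfl,
          Submodule.Quotient.mk_eq_zero, Submodule.mem_smul_pointwise_iff_exists] at hx
        obtain ⟨y, -, hy⟩ := hx
        rw [pow_succ', ← smul_smul] at hy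
        rw [Submodule.Quotient.mk_eq_zero, Submodule.mem_smul_pointwise_iff_exists]
        exact ⟨y, trivial, h.1 hy⟩
      · intro x
        obtain ⟨x, rfl⟩ := Submodule.Quotient.mk_surjective _ x
        constructor
        · intro hx
          rw [show g (Submodule.Quotient.mk x) = Submodule.Quotient.mk x from rfl,
            Submodule.Quotient.mk_eq_zero, Submodule.mem_smul_pointwise_iff_exists] at hx
          obtain ⟨y, -, rfl⟩ := hx
          exact ⟨Submodule.Quotient.mk y, rfl⟩
        · rintro ⟨y, hy⟩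
          obtain ⟨y, rfl⟩ := Submodule.Quotient.mk_surjective _ y
          rw [← hy]
          exact (Submodule.Quotient.mk_eq_zero _).2
            ((Submodule.mem_smul_pointwise_iff_exists _ _ _).2 ⟨y, trivial, rfl⟩)

end Reg

/-- Local data for sections on an open cut out by finitely many elements. -/
theorem sections_cover {Q P : Scheme.{u}} [IsAffine P] [CompactSpace Q] [QuasiSeparatedSpace Q]
    (w : Q ⟶ P) [IsOpenImmersion w] {d : ℕ} (y : Fin d → Γ(P, ⊤))
    (hle : ∀ i, P.basicOpen (y i) ≤ w.opensRange) (hcov : w.opensRange ≤ ⨆ i, P.basicOpen (y i)) :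
    (∀ b, w.appTop b = 0 → ∃ N, ∀ i, y i ^ N * b = 0) ∧
    (∀ g, ∃ (N : ℕ) (t : Fin d → Γ(P, ⊤)), (∀ i j, y j ^ N * t i = y i ^ N * t j) ∧
      ∀ i, w.appTop (t i) = w.appTop (y i) ^ N * g) := by
  have h1 : ∀ b, w.appTop b = 0 → ∃ N, ∀ i, y i ^ N * b = 0 := fun b hb => by
    choose k hk using fun i => (GlueCompl21.exists_pow_mul w (y i) (hle i)).1 b hb
    refine ⟨Finset.univ.sup k, fun i => ?_⟩
    rw [← Nat.sub_add_cancel (Finset.le_sup (f := k) (Finset.mem_univ i)), pow_add, mul_assoc, hk, mul_zero]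
  refine ⟨h1, fun g => ?_⟩
  choose k x hx using fun i => (GlueCompl21.exists_pow_mul w (y i) (hle i)).2 g
  let N := Finset.univ.sup k
  let t : Fin d → Γ(P, ⊤) := fun i => y i ^ (N - k i) * x i
  have ht : ∀ i, w.appTop (t i) = w.appTop (y i) ^ N * g := fun i => by
    rw [map_mul, map_pow, hx, ← mul_assoc, ← pow_add, Nat.sub_add_cancel (Finset.le_sup (f := k) (Finset.mem_univ i))]
  choose M hM using fun ij : Fin d × Fin d => h1 (y ij.2 ^ N * t ij.1 - y ij.1 ^ N * t ij.2) (by
    rw [map_sub, map_mul (w.appTop.hom) (y ij.2 ^ N), map_mul (w.appTop.hom) (y ij.1 ^ N), map_pow, map_pow, ht, ht]; ring)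
  let L := Finset.univ.sup M
  refine ⟨N + (L + L), fun i => y i ^ (L + L) * t i, fun i j => ?_, fun i => ?_⟩
  · have e1 := hM (i, j) i
    have hL : M (i, j) ≤ L := Finset.le_sup (Finset.mem_univ (i, j))
    have e2 : y i ^ (L + L) * (y j ^ N * t i - y i ^ N * t j) = 0 := by
      rw [← Nat.sub_add_cancel (hL.trans (Nat.le_add_right L L)), pow_add, mul_assoc, e1, mul_zero]
    linear_combination y j ^ (L + L) * e2
  · rw [map_mul, map_pow, ht, pow_add]; ring

/-- Depth three gives regular triples in the powers of a system of generators. -/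
theorem nonempty_triple {A : Type u} [CommRing A] [IsLocalRing A] [IsNoetherianRing A]
    (hA : (3 : ℕ∞) ≤ LocCoh.depth A A) {d : ℕ} (y : Fin d → A)
    (hy : Ideal.span (Set.range y) = IsLocalRing.maximalIdeal A) (N : ℕ)
    (R : Type u) [CommRing R] [Algebra A R] [Module.Flat A R] :
    Nonempty (Triple (fun i => algebraMap A R (y i) ^ N)) := by
  have hne : IsLocalRing.maximalIdeal A • (⊤ : Submodule A A) ≠ ⊤ := by
    rw [smul_eq_mul, Ideal.mul_top]
    exact (IsLocalRing.maximalIdeal.isMaximal A).ne_top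
  obtain ⟨rs, hlen, hm, h⟩ := (GrothLib.Depth.le_idealDepth_iff_exists (IsLocalRing.maximalIdeal A) hne 3).1 hA
  obtain ⟨x, z, w, rfl⟩ := List.length_eq_three.1 hlen
  obtain ⟨M, hM⟩ := Ideal.exists_pow_le_of_le_radical_of_fg
    (show IsLocalRing.maximalIdeal A ≤ (Ideal.span (Set.range fun i => y i ^ N)).radical from by
      rw [← hy, Ideal.span_le]
      rintro _ ⟨i, rfl⟩
      exact ⟨N, Ideal.subset_span ⟨i, rfl⟩⟩) (IsNoetherian.noetherian _)
  have hM' : ∀ r ∈ [x, z, w], ∃ l : Fin d → A, r ^ (M + 1) = ∑ i, l i * y i ^ N := fun r hr => by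
    obtain ⟨l, hl⟩ := (Submodule.mem_span_range_iff_exists_fun A).1
      (hM (Ideal.pow_le_pow_right M.le_succ (Ideal.pow_mem_pow (hm r hr) (M + 1))))
    exact ⟨l, hl.symm⟩
  obtain ⟨l, hl⟩ := hM' x (by simp)
  obtain ⟨m, hm'⟩ := hM' z (by simp)
  obtain ⟨n, hn⟩ := hM' w (by simp)
  let X := algebraMap A R (x ^ (M + 1))
  let Z := algebraMap A R (z ^ (M + 1))
  let W := algebraMap A R (w ^ (M + 1))
  have hR : IsWeaklyRegular R [X, Z, W] := (isWeaklyRegular_pow M [x, z, w] h).of_flat
  rw [isWeaklyRegular_cons_iff, isWeaklyRegular_cons_iff, isWeaklyRegular_cons_iff] at hR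
  obtain ⟨r1, r2, r3, -⟩ := hR
  have eX : (∑ i, algebraMap A R (l i) * algebraMap A R (y i) ^ N) = X := by rw [show X = algebraMap A R (x ^ (M + 1)) from rfl, hl]; simp
  have eZ : (∑ i, algebraMap A R (m i) * algebraMap A R (y i) ^ N) = Z := by rw [show Z = algebraMap A R (z ^ (M + 1)) from rfl, hm']; simp
  have eW : (∑ i, algebraMap A R (n i) * algebraMap A R (y i) ^ N) = W := by rw [show W = algebraMap A R (w ^ (M + 1)) from rfl, hn]; simp
  refine ⟨⟨fun i => algebraMap A R (l i), fun i => algebraMap A R (m i), fun i => algebraMap A R (n i),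
    fun c hc => r1 ?_, fun c c' hc => ?_, fun c d' e hc => ?_⟩⟩
  · show X • c = X • 0
    rw [smul_zero, ← eX]; exact hc
  · rw [eX, eZ] at hc
    rw [eX]
    have h0 : (Submodule.Quotient.mk c : QuotSMulTop X R) = 0 := r2 (by
      show Z • (Submodule.Quotient.mk c : QuotSMulTop X R) = Z • 0
      rw [smul_zero, ← Submodule.Quotient.mk_smul, Submodule.Quotient.mk_eq_zero,
        Submodule.mem_smul_pointwise_iff_exists]
      exact ⟨c', Submodule.mem_top, hc⟩)
    rw [Submodule.Quotient.mk_eq_zero, Submodule.mem_smul_pointwise_iff_exists] at h0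
    obtain ⟨q, -, hq⟩ := h0
    exact ⟨q, hq.symm⟩
  · rw [eX, eZ, eW] at hc
    rw [eX, eZ]
    let π : R →ₗ[R] QuotSMulTop X R := Submodule.mkQ _
    have h0 : (Submodule.Quotient.mk (π c) : QuotSMulTop Z (QuotSMulTop X R)) = 0 := r3 (by
      show W • (Submodule.Quotient.mk (π c) : QuotSMulTop Z (QuotSMulTop X R)) = W • 0
      rw [smul_zero, ← Submodule.Quotient.mk_smul, Submodule.Quotient.mk_eq_zero,
        Submodule.mem_smul_pointwise_iff_exists]
      refine ⟨π (-d'), Submodule.mem_top, ?_⟩
      rw [← map_smul, ← map_smul, ← sub_eq_zero, ← map_sub]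
      refine (Submodule.Quotient.mk_eq_zero _).2 ((Submodule.mem_smul_pointwise_iff_exists _ _ _).2
        ⟨e, Submodule.mem_top, ?_⟩)
      simp only [smul_eq_mul]
      linear_combination hc)
    rw [Submodule.Quotient.mk_eq_zero, Submodule.mem_smul_pointwise_iff_exists] at h0
    obtain ⟨p, -, hp⟩ := h0
    obtain ⟨p, rfl⟩ := Submodule.mkQ_surjective _ p
    change Z • π p = π c at hp
    rw [← map_smul, ← sub_eq_zero, ← map_sub] at hp
    obtain ⟨q, -, hq⟩ := (Submodule.mem_smul_pointwise_iff_exists _ _ _).1 ((Submodule.Quotient.mk_eq_zero _).1 hp)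
    refine ⟨p, -q, ?_⟩
    simp only [smul_eq_mul] at hq
    linear_combination hq

/-- The torsion of an element is bounded, uniformly in flat algebras. -/
theorem exists_torsion_bound (A : Type u) [CommRing A] [IsNoetherianRing A] (f : A) :
    ∃ e, ∀ (R : Type u) [CommRing R] [Algebra A R] [Module.Flat A R] (k : ℕ) (r : R),
      algebraMap A R f ^ k * r = 0 → algebraMap A R f ^ e * r = 0 := by
  let K : ℕ →o Submodule A A :=
    ⟨fun k => LinearMap.ker (LinearMap.lsmul A A (f ^ k)), fun i j hij x hx => by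
      rw [LinearMap.mem_ker, LinearMap.lsmul_apply] at hx ⊢
      rw [← Nat.sub_add_cancel hij, pow_add, mul_smul, hx, smul_zero]⟩
  obtain ⟨e, he⟩ := monotone_stabilizes_iff_noetherian.2 inferInstance K
  refine ⟨e, fun R _ _ _ k r hr => ?_⟩
  have hKe : ∀ x ∈ K k, f ^ e * x = 0 := fun x hx => by
    have : x ∈ K (max e k) := K.mono (le_max_right e k) hx
    rw [← he _ (le_max_left e k)] at this
    exact this
  have hex : Function.Exact (K k).subtype (LinearMap.lsmul A A (f ^ k)) := LinearMap.exact_subtype_ker_map _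
  have hh : (LinearMap.lsmul A A (f ^ k)).lTensor R (r ⊗ₜ (1 : A)) = 0 := by
    rw [LinearMap.lTensor_tmul, LinearMap.lsmul_apply, TensorProduct.tmul_smul, TensorProduct.smul_tmul',
      Algebra.smul_def, map_pow, hr, TensorProduct.zero_tmul]
  obtain ⟨z, hz⟩ := (Module.Flat.lTensor_exact R hex _).1 hh
  have key : ∀ z, TensorProduct.rid A R ((K k).subtype.lTensor R z) * algebraMap A R f ^ e = 0 := by
    intro z
    induction z using TensorProduct.induction_on with
    | zero => simp
    | tmul a x =>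
      rw [LinearMap.lTensor_tmul, TensorProduct.rid_tmul, Algebra.smul_def, ← map_pow, mul_right_comm,
        ← map_mul, Submodule.subtype_apply, mul_comm x.1, hKe x.1 x.2, map_zero, zero_mul]
    | add p q hp hq => rw [map_add, map_add, add_mul, hp, hq, add_zero]
  have := key z
  rw [hz, TensorProduct.rid_tmul, one_smul] at this
  rw [mul_comm]
  exact this

/-- Sections over a closed subscheme of a punctured spectrum, in depth three. -/
theorem sections_tower {A : Type u} [CommRing A] [IsLocalRing A] [IsNoetherianRing A]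
    (hA : (3 : ℕ∞) ≤ LocCoh.depth A A) {d : ℕ} (y : Fin d → A)
    (hy : Ideal.span (Set.range y) = IsLocalRing.maximalIdeal A) (f : A) {e : ℕ}
    {R : Type u} [CommRing R] [Algebra A R] [Module.Flat A R]
    (htor : ∀ (k : ℕ) (r : R), algebraMap A R f ^ k * r = 0 → algebraMap A R f ^ e * r = 0)
    {Q P : Scheme.{u}} [IsAffine P] [CompactSpace Q] [QuasiSeparatedSpace Q]
    (w : Q ⟶ P) [IsOpenImmersion w] (ρ : R →+* Γ(P, ⊤)) (hρs : Function.Surjective ρ) {k : ℕ} (hek : e ≤ k)
    (hker : ∀ r, ρ r = 0 ↔ algebraMap A R f ^ k ∣ r)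
    (hrange : w.opensRange = ⨆ i, P.basicOpen (ρ (algebraMap A R (y i)))) :
    (∀ b, w.appTop (ρ b) = 0 → algebraMap A R f ^ (k - e) ∣ b) ∧
    (∀ g, ∃ b, ∀ (Q' P' : Scheme.{u}) (w' : Q' ⟶ P') (ρ' : R →+* Γ(P', ⊤)) (π : Q' ⟶ Q) (π' : P' ⟶ P),
      (∀ r, π'.appTop (ρ r) = ρ' r) → π ≫ w = w' ≫ π' → (∀ r, algebraMap A R f ^ (k - e) ∣ r → ρ' r = 0) →
      w'.appTop (ρ' b) = π.appTop g) := by
  obtain ⟨h1, h2⟩ := sections_cover w (fun i => ρ (algebraMap A R (y i)))
    (fun i => hrange.ge.trans' (le_iSup (fun i => P.basicOpen (ρ (algebraMap A R (y i)))) i)) hrange.le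
  refine ⟨fun b hb => ?_, fun g => ?_⟩
  · obtain ⟨N, hN⟩ := h1 _ hb
    obtain ⟨T⟩ := nonempty_triple hA y hy N R
    refine dvd_of_forall_mul T (algebraMap A R f) hek (fun r => htor k r) b fun i => (hker _).1 ?_
    rw [map_mul, map_pow]
    exact hN i
  · obtain ⟨N, t, ht, hti⟩ := h2 g
    choose s hs using fun i => hρs (t i)
    obtain ⟨T⟩ := nonempty_triple hA y hy N R
    obtain ⟨a, ha⟩ := exists_approx_of_compat T (algebraMap A R f) hek (fun r => htor k r) s fun i j =>
      (hker _).1 (by rw [map_sub, map_mul, map_mul, map_pow, map_pow, hs, hs, ht, sub_self])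
    refine ⟨a, fun Q' P' w' ρ' π π' hπ' hsq hρ' => ?_⟩
    -- compare on the cover pulled back to `Q'`
    refine sub_eq_zero.1 (Q'.sheaf.eq_of_locally_eq'
      (fun i => Q'.basicOpen (π.appTop (w.appTop (ρ (algebraMap A R (y i)))))) ⊤
      (fun i => homOfLE le_top) (fun q _ => ?_) _ _ fun i => ?_)
    · obtain ⟨i, hi⟩ := Opens.mem_iSup.1 (hrange.le ⟨π q, rfl⟩)
      refine Opens.mem_iSup.2 ⟨i, (Scheme.preimage_basicOpen_top π _).le ?_⟩
      exact (Scheme.preimage_basicOpen_top w _).le hi
    · have hc : ∀ x, π.appTop (w.appTop (ρ x)) = w'.appTop (ρ' x) := fun x => by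
        rw [← ConcreteCategory.comp_apply, ← Scheme.Hom.comp_appTop, hsq, Scheme.Hom.comp_appTop,
          ConcreteCategory.comp_apply, hπ']
      have h0 : π.appTop (w.appTop (ρ (algebraMap A R (y i)))) ^ N * (w'.appTop (ρ' a) - π.appTop g) = 0 := by
        have h3 := hρ' _ (ha i)
        rw [map_sub, sub_eq_zero] at h3
        rw [mul_sub, hc, ← map_pow, ← map_pow, ← map_mul, ← map_mul, h3, ← hc, hs, hti i, map_mul, map_pow, hc,
          map_pow, map_pow, sub_self]
      have hu : IsUnit ((Q'.presheaf.map (homOfLE (le_top : Q'.basicOpen (π.appTop (w.appTop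
          (ρ (algebraMap A R (y i))))) ≤ ⊤)).op).hom (π.appTop (w.appTop (ρ (algebraMap A R (y i)))))) :=
        RingedSpace.isUnit_res_basicOpen Q'.toRingedSpace _
      show (Q'.presheaf.map _).hom _ = (Q'.presheaf.map _).hom 0
      rw [map_zero]
      refine (hu.pow N).mul_right_eq_zero.1 ?_
      rw [← map_pow, ← map_mul, h0, map_zero]

/-- The range of a base change of a punctured spectrum, by basic opens. -/
theorem opensRange_eq_iSup {A : Type u} [CommRing A] [IsLocalRing A] {d : ℕ} (y : Fin d → A)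
    (hy : Ideal.span (Set.range y) = IsLocalRing.maximalIdeal A) {Q P : Scheme.{u}}
    (b : Q ⟶ (FEt.puncturedSpec A : Scheme.{u})) (w : Q ⟶ P) [IsOpenImmersion w] (q : P ⟶ Spec (CommRingCat.of A))
    (sq : IsPullback b w (FEt.puncturedSpec A).ι q) :
    w.opensRange = ⨆ i, P.basicOpen (q.appTop ((Scheme.ΓSpecIso (CommRingCat.of A)).inv (y i))) := by
  let U := FEt.puncturedSpec A
  have hU : U = ⨆ i, (PrimeSpectrum.basicOpen (y i) : (Spec (CommRingCat.of A)).Opens) := by
    refine Opens.ext (Set.ext fun x => ?_)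
    rw [Opens.coe_iSup, Set.mem_iUnion]
    constructor
    · intro hx
      by_contra hc
      push Not at hc
      refine hx (PrimeSpectrum.ext ((IsLocalRing.le_maximalIdeal x.2.ne_top).antisymm ?_))
      show IsLocalRing.maximalIdeal A ≤ x.asIdeal
      rw [← hy, Ideal.span_le]
      rintro _ ⟨i, rfl⟩
      exact not_not.1 (hc i)
    · rintro ⟨i, hi⟩ (rfl : x = IsLocalRing.closedPoint A)
      exact hi (hy.le (Ideal.subset_span ⟨i, rfl⟩))
  have h1 : w.opensRange = q ⁻¹ᵁ U := by
    refine Opens.ext ?_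
    show Set.range w = _
    rw [← sq.isoPullback_hom_snd]
    show Set.range ((pullback.snd U.ι q).base ∘ sq.isoPullback.hom.base) = _
    rw [Set.range_comp, Set.range_eq_univ.2 sq.isoPullback.hom.surjective, Set.image_univ]
    exact (congrArg (fun O : P.Opens => (O : Set P)) (Scheme.Hom.opensRange_pullbackSnd U.ι q)).trans
      (by rw [Scheme.Opens.opensRange_ι])
  rw [h1, hU, Scheme.Hom.preimage_iSup]
  refine iSup_congr fun i => ?_
  rw [← basicOpen_eq_of_affine (R := CommRingCat.of A)]
  exact Scheme.preimage_basicOpen_top q _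

/-- A cover of the punctured spectrum whose restriction to `V(J)` extends, extends. -/
theorem exists_extension_of_mem (A : Type u) [CommRing A] [IsLocalRing A] [IsNoetherianRing A]
    (hdA : (3 : ℕ∞) ≤ LocCoh.depth A A) (fx : A) (hfx : fx ∈ IsLocalRing.maximalIdeal A)
    (V : FEt.Cat (FEt.puncturedSpec A : Scheme.{u}))
    (Y₀ : FEt.Cat (Spec (CommRingCat.of (A ⧸ Ideal.span {fx}))))
    (e : (FEt.restrict (pullback.snd (FEt.puncturedSpec A).ι
        (Spec.map (CommRingCat.ofHom (Ideal.Quotient.mk (Ideal.span {fx})))))).obj Y₀ ≅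
      (FEt.restrict (pullback.fst (FEt.puncturedSpec A).ι
        (Spec.map (CommRingCat.ofHom (Ideal.Quotient.mk (Ideal.span {fx})))))).obj V) :
    ∃ Y : FEt.Cat (Spec (CommRingCat.of A)), Nonempty ((FEt.restrict (FEt.puncturedSpec A).ι).obj Y ≅ V) := by
  let J : Ideal A := Ideal.span {fx}
  let A' := AdicCompletion (IsLocalRing.maximalIdeal A) A
  let J' := J.map (algebraMap A A')
  have hJm : J ≤ IsLocalRing.maximalIdeal A := (Ideal.span_singleton_le_iff_mem _).2 hfx
  haveI : IsNoetherianRing A' := GrothLib.AdicExtra.isNoetherianRing_adicCompletion _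
  haveI : IsAdicComplete ((IsLocalRing.maximalIdeal A).map (algebraMap A A')) A' :=
    AdicCompletion.isAdicComplete_self _ (IsNoetherian.noetherian _)
  haveI : IsAdicComplete J' A' :=
    GrothLib.AdicExtra.isAdicComplete_of_le (J := (IsLocalRing.maximalIdeal A).map (algebraMap A A'))
      (Ideal.map_mono hJm) (IsNoetherian.noetherian _)
  haveI : Module.Flat A A' := AdicCompletion.flat_of_isNoetherian _
  let U := FEt.puncturedSpec A
  let S := Spec (CommRingCat.of A)
  let S' := Spec (CommRingCat.of A')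
  let f : S' ⟶ S := Spec.map (CommRingCat.ofHom (algebraMap A A'))
  haveI : Flat f := by
    rw [HasRingHomProperty.Spec_iff (P := @Flat)]
    exact RingHom.flat_algebraMap_iff.2 inferInstance
  haveI : Surjective f := by
    haveI : IsLocalRing A' := inferInstance
    haveI : IsLocalHom (algebraMap A A') := inferInstance
    haveI := Module.FaithfullyFlat.of_flat_of_isLocalHom (A := A) (B := A')
    exact ⟨PrimeSpectrum.comap_surjective_of_faithfullyFlat⟩
  haveI : IsNoetherianRing (CommRingCat.of A) := inferInstanceAs (IsNoetherianRing A)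
  have hjA : ∀ W : S.Opens, Function.Bijective (U.ι.app W) :=
    GrothLib.FEt21.app_ι_bijective_of_depthTwo (GrothLib.FEt21.depthTwoOutside_puncturedSpec A (le_trans (by norm_num) hdA))
  let j' := pullback.snd U.ι f
  let U' := pullback U.ι f
  have hj' : ∀ W : S'.Opens, Function.Bijective (j'.app W) :=
    bijective_app_baseChange U.ι f hjA (pullback.fst U.ι f) j' (IsPullback.of_hasPullback U.ι f)
  haveI : IsNoetherianRing (CommRingCat.of A') := inferInstanceAs (IsNoetherianRing A')
  haveI : CompactSpace U' := QuasiCompact.compactSpace_of_compactSpace j'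
  haveI : U'.IsQuasiAffine := Scheme.IsQuasiAffine.of_isImmersion j'
  -- the tower
  let K : ℕ → Ideal A' := fun n => J' ^ (n + 1)
  let cl' : ∀ n, Spec (CommRingCat.of (A' ⧸ K n)) ⟶ S' := fun n =>
    Spec.map (CommRingCat.ofHom (Ideal.Quotient.mk (K n)))
  let Z : ℕ → Scheme.{u} := fun n => pullback j' (cl' n)
  let t : ∀ n, Z n ⟶ U' := fun n => pullback.fst j' (cl' n)
  let k : ∀ n, Spec (CommRingCat.of (A' ⧸ K n)) ⟶ Spec (CommRingCat.of (A' ⧸ K (n + 1))) := fun n =>
    Spec.map (CommRingCat.ofHom (Ideal.Quotient.factor (Ideal.pow_le_pow_right (Nat.le_succ (n + 1)))))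
  have hk : ∀ n, k n ≫ cl' (n + 1) = cl' n := fun n => by
    show Spec.map _ ≫ Spec.map _ = Spec.map _
    rw [← Spec.map_comp, ← CommRingCat.ofHom_comp, Ideal.Quotient.factor_comp_mk]
  have hKle : ∀ n, K (n + 1) ≤ K n := fun n => Ideal.pow_le_pow_right (Nat.le_succ (n + 1))
  haveI : ∀ n, IsClosedImmersion (k n) := fun n =>
    IsClosedImmersion.spec_of_surjective _ (Ideal.Quotient.factor_surjective (hKle n))
  haveI : ∀ n, Surjective (k n) := fun n => ⟨fun x => by
    have hle : RingHom.ker (Ideal.Quotient.factor (hKle n)) ≤ x.asIdeal := fun y hy => by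
      obtain ⟨y, rfl⟩ := Ideal.Quotient.mk_surjective y
      rw [RingHom.mem_ker, Ideal.Quotient.factor_mk, Ideal.Quotient.eq_zero_iff_mem] at hy
      refine x.2.mem_of_pow_mem 2 ?_
      rw [← map_pow, Ideal.Quotient.eq_zero_iff_mem.2]
      · exact zero_mem _
      have := Ideal.pow_mem_pow hy 2
      rw [← pow_mul] at this
      exact Ideal.pow_le_pow_right (by omega) this
    have hr := range_comap_of_surjective _ _ (Ideal.Quotient.factor_surjective (hKle n))
    exact hr.ge hle⟩
  let i : ∀ n, Z n ⟶ Z (n + 1) := fun n =>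
    pullback.lift (pullback.fst _ _) (pullback.snd _ _ ≫ k n) (by rw [Category.assoc, hk, pullback.condition])
  have hi : ∀ n, i n ≫ t (n + 1) = t n := fun n => pullback.lift_fst _ _ _
  have sqi : ∀ n, IsPullback (i n) (pullback.snd j' (cl' n)) (pullback.snd j' (cl' (n + 1))) (k n) := fun n => by
    refine IsPullback.of_right (h₁₂ := pullback.fst j' (cl' (n + 1))) (v₁₃ := j') (h₂₂ := cl' (n + 1)) ?_
      (pullback.lift_snd _ _ _) (IsPullback.of_hasPullback j' (cl' (n + 1)))
    rw [hk, hi]
    exact IsPullback.of_hasPullback j' (cl' n)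
  haveI : ∀ n, IsClosedImmersion (i n) := fun n => MorphismProperty.of_isPullback (sqi n).flip inferInstance
  haveI : ∀ n, Surjective (i n) := fun n => MorphismProperty.of_isPullback (sqi n).flip inferInstance
  -- lift the cover
  let g₀ : Spec (CommRingCat.of (A' ⧸ K 0)) ⟶ Spec (CommRingCat.of (A ⧸ Ideal.span {fx})) :=
    Spec.map (CommRingCat.ofHom (Ideal.quotientMap (K 0) (algebraMap A A')
      (Ideal.le_comap_map.trans (Ideal.comap_mono (by simp [K, J', J])))))
  have hg₀ : g₀ ≫ Spec.map (CommRingCat.ofHom (Ideal.Quotient.mk (Ideal.span {fx}))) = cl' 0 ≫ f := by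
    show Spec.map _ ≫ Spec.map _ = Spec.map _ ≫ Spec.map _
    rw [← Spec.map_comp, ← Spec.map_comp, ← CommRingCat.ofHom_comp, ← CommRingCat.ofHom_comp,
      Ideal.quotientMap_comp_mk]
  haveI : IsAdicComplete (K 0) A' := by simpa [K] using (inferInstance : IsAdicComplete J' A')
  haveI : (FEt.restrict (cl' 0)).EssSurj := GrothLib.FEt21.essSurj_of_henselian A' (K 0)
  let Yh : FEt.Cat S' := (FEt.restrict (cl' 0)).objPreimage ((FEt.restrict g₀).obj Y₀)
  let eh := (FEt.restrict (cl' 0)).objObjPreimageIso ((FEt.restrict g₀).obj Y₀)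
  let Y : FEt.Cat U' := (FEt.restrict j').obj Yh
  let V' : FEt.Cat U' := (FEt.restrict (pullback.fst U.ι f)).obj V
  let w : Z 0 ⟶ pullback U.ι (Spec.map (CommRingCat.ofHom (Ideal.Quotient.mk (Ideal.span {fx})))) :=
    pullback.lift (t 0 ≫ pullback.fst U.ι f) (pullback.snd j' (cl' 0) ≫ g₀) (by
      rw [Category.assoc, Category.assoc, pullback.condition, hg₀, ← Category.assoc, ← Category.assoc,
        pullback.condition])
  let e₀ : (FEt.restrict (t 0)).obj Y ≅ (FEt.restrict (t 0)).obj V' :=
    (restrictCompIso (t 0) j' (pullback.snd j' (cl' 0) ≫ cl' 0) pullback.condition Yh).symm ≪≫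
      restrictCompIso (pullback.snd j' (cl' 0)) (cl' 0) _ rfl Yh ≪≫
      (FEt.restrict (pullback.snd j' (cl' 0))).mapIso eh ≪≫
      (restrictCompIso (pullback.snd j' (cl' 0)) g₀ _ rfl Y₀).symm ≪≫
      restrictCompIso w (pullback.snd U.ι _) _ (pullback.lift_snd _ _ _) Y₀ ≪≫
      (FEt.restrict w).mapIso e ≪≫
      (restrictCompIso w (pullback.fst U.ι _) _ (pullback.lift_fst _ _ _) V).symm ≪≫
      restrictCompIso (t 0) (pullback.fst U.ι f) _ rfl V
  -- sections of the cover
  let yh : Yh.left ⟶ S' := Yh.hom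
  haveI : IsFinite yh := Yh.prop.1
  haveI : Etale yh := Yh.prop.2
  haveI : IsAffine Yh.left := isAffine_of_isAffineHom yh
  let y : pullback yh j' ⟶ U' := pullback.snd yh j'
  have hb : Function.Bijective (pullback.fst yh j').appTop :=
    GrothLib.FEt21.app_bijective_of_isPullback (IsPullback.of_hasPullback yh j') hj' (isAffineOpen_top _)
  let P : ℕ → Scheme.{u} := fun n => pullback yh (cl' n)
  let w' : ∀ n, pullback y (t n) ⟶ P n := fun n =>
    pullback.lift (pullback.fst y (t n) ≫ pullback.fst yh j') (pullback.snd y (t n) ≫ pullback.snd j' (cl' n))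
      (by rw [Category.assoc, Category.assoc, pullback.condition, ← Category.assoc, pullback.condition,
        Category.assoc, pullback.condition])
  have sqw : ∀ n, IsPullback (w' n) (pullback.snd y (t n)) (pullback.snd yh (cl' n))
      (pullback.snd j' (cl' n)) := fun n => by
    refine IsPullback.of_right (h₁₂ := pullback.fst yh (cl' n)) (v₁₃ := yh) (h₂₂ := cl' n) ?_
      (pullback.lift_snd _ _ _) (IsPullback.of_hasPullback _ _)
    rw [show w' n ≫ pullback.fst _ _ = pullback.fst y (t n) ≫ pullback.fst yh j' from pullback.lift_fst _ _ _,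
      ← show t n ≫ j' = pullback.snd j' (cl' n) ≫ cl' n from pullback.condition]
    exact (IsPullback.of_hasPullback y (t n)).paste_horiz (IsPullback.of_hasPullback yh j')
  -- the algebra of the lifted cover
  let φ : A' →+* Γ(Yh.left, ⊤) := yh.appTop.hom.comp (Scheme.ΓSpecIso (CommRingCat.of A')).inv.hom
  have key : ∀ n, ∃ (r : Γ(Yh.left, ⊤) →+* Γ(P n, ⊤)), Function.Surjective r ∧
      RingHom.ker r = (K n).map φ ∧ r = (pullback.fst yh (cl' n)).appTop.hom := by
    intro n
    haveI : IsClosedImmersion (cl' n) := IsClosedImmersion.spec_of_surjective _ Ideal.Quotient.mk_surjective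
    haveI : IsClosedImmersion (pullback.fst yh (cl' n)) :=
      MorphismProperty.pullback_fst _ _ (inferInstance : IsClosedImmersion (cl' n))
    exact ⟨_, (IsClosedImmersion.isAffine_surjective_of_isAffine _).2, ker_fst_appTop yh (K n), rfl⟩
  letI : Algebra A' Γ(Yh.left, ⊤) := φ.toAlgebra
  haveI : Module.Finite A' Γ(Yh.left, ⊤) := by
    have h := yh.finite_appTop
    exact RingHom.Finite.comp h (RingHom.Finite.of_surjective _
      (ConcreteCategory.bijective_of_isIso (Scheme.ΓSpecIso (CommRingCat.of A')).inv).2)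
  haveI : IsAdicComplete J' Γ(Yh.left, ⊤) := GrothLib.AdicLim.isAdicComplete_of_finite J' _
  have hKr : ∀ n (b : Γ(Yh.left, ⊤)), (pullback.fst yh (cl' n)).appTop b = 0 ↔
      b ∈ (J' ^ (n + 1) • ⊤ : Submodule A' Γ(Yh.left, ⊤)) := fun n b => by
    obtain ⟨r, -, hker, rfl⟩ := key n
    rw [Ideal.smul_top_eq_map]
    exact (SetLike.ext_iff.1 hker b)
  have hfac : ∀ n, pullback.fst y (t n) ≫ pullback.fst yh j' = w' n ≫ pullback.fst yh (cl' n) :=
    fun n => (pullback.lift_fst _ _ _).symm
  -- depth three gives the comparison with the tower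
  obtain ⟨d, ys, hys⟩ : ∃ (d : ℕ) (ys : Fin d → A), Ideal.span (Set.range ys) = IsLocalRing.maximalIdeal A :=
    Submodule.fg_iff_exists_fin_generating_family.mp (IsNoetherian.noetherian _)
  obtain ⟨ε, hε⟩ := exists_torsion_bound A fx
  letI : Algebra A Γ(Yh.left, ⊤) := (φ.comp (algebraMap A A')).toAlgebra
  haveI : Module.Flat A Γ(Yh.left, ⊤) := by
    refine RingHom.flat_algebraMap_iff.1 (RingHom.Flat.comp (RingHom.flat_algebraMap_iff.2 inferInstance) ?_)
    exact RingHom.Flat.comp (RingHom.Flat.of_bijective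
      (ConcreteCategory.bijective_of_isIso (Scheme.ΓSpecIso (CommRingCat.of A')).inv))
      (HasRingHomProperty.appTop (P := @Flat) yh inferInstance)
  haveI : CompactSpace (U : Scheme.{u}) := isCompact_iff_compactSpace.1 (NoetherianSpace.isCompact _)
  have hJpow : ∀ n, K n = Ideal.span {algebraMap A A' fx ^ (n + 1)} := fun n => by
    show J' ^ (n + 1) = _
    rw [show J' = Ideal.span {algebraMap A A' fx} from by
      show Ideal.map _ (Ideal.span {fx}) = _
      rw [Ideal.map_span, Set.image_singleton], Ideal.span_singleton_pow]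
  have hdvd : ∀ n (b : Γ(Yh.left, ⊤)), (pullback.fst yh (cl' n)).appTop b = 0 ↔
      algebraMap A Γ(Yh.left, ⊤) fx ^ (n + 1) ∣ b := fun n b => by
    obtain ⟨r, -, hker, rfl⟩ := key n
    have h2 : Ideal.map φ (K n) = Ideal.span {φ (algebraMap A A' fx ^ (n + 1))} :=
      (congrArg (Ideal.map φ) (hJpow n)).trans (by rw [Ideal.map_span, Set.image_singleton])
    rw [← Ideal.mem_span_singleton, ← RingHom.mem_ker, hker, h2, map_pow]
    rfl
  -- opens and instances
  let R : ℕ → Scheme.{u} := fun n => pullback y (t n)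
  have sqR : ∀ n, IsPullback (pullback.snd y (t n) ≫ t n ≫ pullback.fst U.ι f) (w' n) U.ι
      ((pullback.snd yh (cl' n) ≫ cl' n) ≫ f) := fun n => by
    have hz : IsPullback (t n ≫ pullback.fst U.ι f) (pullback.snd j' (cl' n)) U.ι (cl' n ≫ f) :=
      (IsPullback.of_hasPullback j' (cl' n)).paste_horiz (IsPullback.of_hasPullback U.ι f)
    simpa only [Category.assoc] using (sqw n).flip.paste_horiz hz
  haveI : ∀ n, IsAffine (P n) := fun n => by
    haveI : IsClosedImmersion (cl' n) := IsClosedImmersion.spec_of_surjective _ Ideal.Quotient.mk_surjective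
    haveI : IsClosedImmersion (pullback.fst yh (cl' n)) :=
      MorphismProperty.pullback_fst _ _ (inferInstance : IsClosedImmersion (cl' n))
    exact isAffine_of_isAffineHom (pullback.fst yh (cl' n))
  haveI : ∀ n, IsOpenImmersion (w' n) := fun n => MorphismProperty.of_isPullback (sqR n) inferInstance
  haveI : ∀ n, CompactSpace (R n) := fun n => by
    haveI : QuasiCompact (w' n) := MorphismProperty.of_isPullback (sqR n) (inferInstance : QuasiCompact U.ι)
    exact QuasiCompact.compactSpace_of_compactSpace (w' n)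
  haveI : ∀ n, QuasiSeparatedSpace (R n) := fun n => by
    haveI : QuasiSeparated (w' n) := MorphismProperty.of_isPullback (sqR n) (inferInstance : QuasiSeparated U.ι)
    exact quasiSeparatedSpace_of_quasiSeparated (w' n)
  have hρ : ∀ n, Function.Surjective (pullback.fst yh (cl' n)).appTop.hom := fun n => by
    obtain ⟨r, hr, -, rfl⟩ := key n
    exact hr
  have hrangeY : ∀ n, (w' n).opensRange =
      ⨆ i, (P n).basicOpen ((pullback.fst yh (cl' n)).appTop.hom (algebraMap A Γ(Yh.left, ⊤) (ys i))) := fun n => by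
    rw [opensRange_eq_iSup ys hys _ _ _ (sqR n)]
    refine iSup_congr fun i => ?_
    congr 1
    show _ = (pullback.fst yh (cl' n)).appTop (yh.appTop
      ((Scheme.ΓSpecIso (CommRingCat.of A')).inv (algebraMap A A' (ys i))))
    rw [← ConcreteCategory.comp_apply yh.appTop, ← Scheme.Hom.comp_appTop, pullback.condition]
    show ((pullback.snd yh (cl' n) ≫ cl' n) ≫ f).appTop ((Scheme.ΓSpecIso (CommRingCat.of A)).inv (ys i)) = _
    rw [Scheme.Hom.comp_appTop, ConcreteCategory.comp_apply]
    congr 1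
    exact (ConcreteCategory.congr_hom (Scheme.ΓSpecIso_inv_naturality (CommRingCat.ofHom (algebraMap A A'))) (ys i)).symm
  have tower := fun n => sections_tower hdA ys hys fx (e := ε) (R := Γ(Yh.left, ⊤))
    (fun k r => hε Γ(Yh.left, ⊤) k r) (w' (n + ε)) (pullback.fst yh (cl' (n + ε))).appTop.hom (hρ _)
    (k := n + ε + 1) (by omega) (hdvd _) (hrangeY _)
  have hexp : ∀ n, n + ε + 1 - ε = n + 1 := fun n => by omega
  have hinj : ∀ n b, (pullback.fst y (t (n + ε)) ≫ pullback.fst yh j').appTop b = 0 →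
      b ∈ (J' ^ (n + 1) • ⊤ : Submodule A' Γ(Yh.left, ⊤)) := fun n b hb' => by
    refine (hKr n b).1 ((hdvd n b).2 ?_)
    have h := (tower n).1 b (by rw [← ConcreteCategory.comp_apply, ← Scheme.Hom.comp_appTop, ← hfac]; exact hb')
    rwa [hexp] at h
  have hYu : ∀ b : Γ(pullback yh j', ⊤), (∀ n, (pullback.fst y (t n)).appTop b = 0) → b = 0 := by
    intro b hb'
    obtain ⟨b, rfl⟩ := hb.2 b
    rw [show b = 0 from ?_, map_zero]
    refine IsHausdorff.haus (inferInstance : IsHausdorff J' Γ(Yh.left, ⊤)) b fun n => ?_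
    rw [SModEq.zero]
    refine Submodule.smul_mono_left (Ideal.pow_le_pow_right n.le_succ) (hinj n b ?_)
    rw [Scheme.Hom.comp_appTop]
    exact hb' (n + ε)
  have hUu : ∀ e : Γ(U', ⊤), (∀ n, (t n).appTop e = 0) → e = 0 := by
    intro e he
    obtain ⟨a, rfl⟩ := (hj' ⊤).2 e
    obtain ⟨a, rfl⟩ := (ConcreteCategory.bijective_of_isIso (Scheme.ΓSpecIso (CommRingCat.of A')).inv).2 a
    rw [show a = 0 from ?_, map_zero, map_zero]
    refine IsHausdorff.haus (inferInstance : IsHausdorff J' A') a fun n => ?_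
    rw [SModEq.zero, smul_eq_mul, Ideal.mul_top]
    refine Ideal.pow_le_pow_right n.le_succ ?_
    let N := n + ε
    have sqZ : IsPullback (t N ≫ pullback.fst U.ι f) (pullback.snd j' (cl' N)) U.ι (cl' N ≫ f) :=
      (IsPullback.of_hasPullback j' (cl' N)).paste_horiz (IsPullback.of_hasPullback U.ι f)
    haveI : IsOpenImmersion (pullback.snd j' (cl' N)) := MorphismProperty.of_isPullback sqZ inferInstance
    haveI : CompactSpace (Z N) := by
      haveI : QuasiCompact (pullback.snd j' (cl' N)) := MorphismProperty.of_isPullback sqZ (inferInstance : QuasiCompact U.ι)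
      exact QuasiCompact.compactSpace_of_compactSpace (pullback.snd j' (cl' N))
    haveI : QuasiSeparatedSpace (Z N) := by
      haveI : QuasiSeparated (pullback.snd j' (cl' N)) := MorphismProperty.of_isPullback sqZ (inferInstance : QuasiSeparated U.ι)
      exact quasiSeparatedSpace_of_quasiSeparated (pullback.snd j' (cl' N))
    let ρ : A' →+* Γ(Spec (CommRingCat.of (A' ⧸ K N)), ⊤) :=
      (Scheme.ΓSpecIso (CommRingCat.of (A' ⧸ K N))).inv.hom.comp (Ideal.Quotient.mk (K N))
    have hρ' : ∀ x, ρ x = (cl' N).appTop ((Scheme.ΓSpecIso (CommRingCat.of A')).inv x) := fun x =>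
      ConcreteCategory.congr_hom (Scheme.ΓSpecIso_inv_naturality (CommRingCat.ofHom (Ideal.Quotient.mk (K N)))) x
    have hi' := ConcreteCategory.bijective_of_isIso (Scheme.ΓSpecIso (CommRingCat.of (A' ⧸ K N))).inv
    have h := (sections_tower hdA ys hys fx (e := ε) (R := A') (fun k r => hε A' k r) (pullback.snd j' (cl' N)) ρ
      (hi'.2.comp Ideal.Quotient.mk_surjective) (k := N + 1) (by omega)
      (fun r => by
        show (Scheme.ΓSpecIso (CommRingCat.of (A' ⧸ K N))).inv (Ideal.Quotient.mk (K N) r) = 0 ↔ _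
        rw [← Ideal.mem_span_singleton, ← hJpow, ← Ideal.Quotient.eq_zero_iff_mem]
        exact ⟨fun h => hi'.1 (h.trans (map_zero _).symm), fun h => by rw [h, map_zero]⟩)
      (by
        rw [opensRange_eq_iSup ys hys _ _ _ sqZ]
        refine iSup_congr fun i => ?_
        congr 1
        rw [hρ']
        show (cl' N ≫ f).appTop ((Scheme.ΓSpecIso (CommRingCat.of A)).inv (ys i)) = _
        rw [Scheme.Hom.comp_appTop, ConcreteCategory.comp_apply]
        congr 1
        exact (ConcreteCategory.congr_hom (Scheme.ΓSpecIso_inv_naturality (CommRingCat.ofHom (algebraMap A A'))) (ys i)).symm)).1 a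
      (by
        rw [hρ', ← ConcreteCategory.comp_apply, ← Scheme.Hom.comp_appTop, ← pullback.condition, Scheme.Hom.comp_appTop]
        exact he N)
    rw [hexp] at h
    rw [show J' ^ (n + 1) = K n from rfl, hJpow]
    exact Ideal.mem_span_singleton.2 h
  have hYe : ∀ g : ∀ n, Γ(pullback y (t n), ⊤), (∀ n, (step t i hi y n).appTop (g (n + 1)) = g n) →
      ∃ b, ∀ n, (pullback.fst y (t n)).appTop b = g n := by
    intro g hg
    have hπ : ∀ d n, ∃ π : R n ⟶ R (n + d), π ≫ pullback.fst y (t (n + d)) = pullback.fst y (t n) ∧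
        π.appTop (g (n + d)) = g n := by
      intro d
      induction d with
      | zero => exact fun n => ⟨𝟙 _, Category.id_comp _, by rw [Scheme.Hom.id_appTop]; rfl⟩
      | succ d ih =>
        intro n
        obtain ⟨π, h1, h2⟩ := ih n
        refine ⟨π ≫ step t i hi y (n + d), ?_, ?_⟩
        · show (π ≫ step t i hi y (n + d)) ≫ pullback.fst y (t (n + d + 1)) = _
          rw [Category.assoc, show step t i hi y (n + d) ≫ pullback.fst y (t (n + d + 1)) = pullback.fst y (t (n + d)) from
            pullback.lift_fst _ _ _, h1]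
        · show (π ≫ step t i hi y (n + d)).appTop (g (n + d + 1)) = g n
          rw [Scheme.Hom.comp_appTop, ConcreteCategory.comp_apply, hg, h2]
    have hl : ∀ n, ∃ b : Γ(Yh.left, ⊤), (pullback.fst y (t n) ≫ pullback.fst yh j').appTop b = g n := fun n => by
      obtain ⟨b, hb'⟩ := (tower n).2 (g (n + ε))
      obtain ⟨π, h1, h2⟩ := hπ ε n
      have hle : K (n + ε) ≤ K n := Ideal.pow_le_pow_right (by omega)
      let kk : Spec (CommRingCat.of (A' ⧸ K n)) ⟶ Spec (CommRingCat.of (A' ⧸ K (n + ε))) :=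
        Spec.map (CommRingCat.ofHom (Ideal.Quotient.factor hle))
      have hkk : kk ≫ cl' (n + ε) = cl' n := by
        show Spec.map _ ≫ Spec.map _ = Spec.map _
        rw [← Spec.map_comp, ← CommRingCat.ofHom_comp, Ideal.Quotient.factor_comp_mk]
      let π' : P n ⟶ P (n + ε) := pullback.lift (pullback.fst _ _) (pullback.snd _ _ ≫ kk)
        (by rw [Category.assoc, hkk, pullback.condition])
      haveI : IsClosedImmersion (cl' (n + ε)) := IsClosedImmersion.spec_of_surjective _ Ideal.Quotient.mk_surjective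
      haveI : IsClosedImmersion (pullback.fst yh (cl' (n + ε))) :=
        MorphismProperty.pullback_fst _ _ (inferInstance : IsClosedImmersion (cl' (n + ε)))
      have hsq : π ≫ w' (n + ε) = w' n ≫ π' := by
        rw [← cancel_mono (pullback.fst yh (cl' (n + ε))), Category.assoc, Category.assoc, ← hfac,
          reassoc_of% h1, show π' ≫ pullback.fst yh (cl' (n + ε)) = pullback.fst yh (cl' n) from pullback.lift_fst _ _ _,
          ← hfac]
      have h := hb' (R n) (P n) (w' n) (pullback.fst yh (cl' n)).appTop.hom π π' (fun r => by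
          show ((pullback.fst yh (cl' (n + ε))).appTop ≫ π'.appTop) r = _
          rw [← Scheme.Hom.comp_appTop, show π' ≫ pullback.fst yh (cl' (n + ε)) = pullback.fst yh (cl' n) from
            pullback.lift_fst _ _ _]) hsq
        (fun r hr => (hdvd n r).2 (hexp n ▸ hr))
      exact ⟨b, by rw [hfac, Scheme.Hom.comp_appTop, ConcreteCategory.comp_apply]; exact h.trans h2⟩
    choose b hb₁ using hl
    have hstep : ∀ n, b (n + 1 + ε) - b (n + ε) ∈ (J' ^ (n + 1) • ⊤ : Submodule A' Γ(Yh.left, ⊤)) := fun n => by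
      obtain ⟨π, h1, h2⟩ := hπ 1 (n + ε)
      refine hinj n _ ?_
      have hc : n + 1 + ε = n + ε + 1 := by omega
      have hb₂ : (pullback.fst y (t (n + ε + 1)) ≫ pullback.fst yh j').appTop (b (n + 1 + ε)) = g (n + ε + 1) := by
        rw [hc]; exact hb₁ _
      rw [map_sub, hb₁ (n + ε), sub_eq_zero, ← h2, ← hb₂, ← ConcreteCategory.comp_apply, ← Scheme.Hom.comp_appTop,
        reassoc_of% h1]
    obtain ⟨L, hL⟩ := IsPrecomplete.prec (inferInstance : IsPrecomplete J' Γ(Yh.left, ⊤))
      (f := fun n => b (n + ε)) (fun {m n} hmn => by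
        induction n, hmn using Nat.le_induction with
        | base => exact SModEq.refl _
        | succ n hmn ih =>
          refine ih.trans (SModEq.sub_mem.2 ?_)
          rw [← neg_sub]
          exact neg_mem (Submodule.smul_mono_left (Ideal.pow_le_pow_right (by omega)) (hstep n)))
    refine ⟨(pullback.fst yh j').appTop L, fun n => ?_⟩
    obtain ⟨π, h1, h2⟩ := hπ ε n
    rw [← h2, ← hb₁ (n + ε), ← ConcreteCategory.comp_apply, ← Scheme.Hom.comp_appTop, ← ConcreteCategory.comp_apply,
      ← Scheme.Hom.comp_appTop, reassoc_of% h1, hfac, Scheme.Hom.comp_appTop, ConcreteCategory.comp_apply,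
      ConcreteCategory.comp_apply]
    congr 1
    rw [← sub_eq_zero, ← map_sub, hKr]
    have h3 := SModEq.sub_mem.1 (hL (n + 1))
    rw [show L - b (n + ε) = (b (n + 1 + ε) - b (n + ε)) - (b (n + 1 + ε) - L) by abel]
    exact sub_mem (hstep n) h3
  obtain ⟨θ⟩ := nonempty_iso t i hi Y V' hYe hYu hUu e₀
  exact FpqcPure21.exists_extension_of_flat_descent U.ι f hjA V Yh θ


end Groth.Agent.PurityLef21
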