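import Groth.Agent.Lib.FEt21.PunctSections
import Groth.Agent.PurityLef21.FPower

/-!
# Sections of finite étale covers of a punctured spectrum in depth two
-/

set_option autoImplicit false
set_option backward.isDefEq.respectTransparency false
set_option linter.style.haveILetI false

universe u

open CategoryTheory CategoryTheory.Limits AlgebraicGeometry TopologicalSpace Opposite IsLocalRing
open scoped TensorProduct

namespace GrothLib.FEt21

variable {A : Type u} [CommRing A] [IsLocalRing A] [IsNoetherianRing A]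

section
variable {d : ℕ} {y : Fin d → A}

/-- Finiteness and local projectivity of an algebra which is finite étale off the common zeros. -/
theorem punct_of_local_sat
    (hsatA : ∀ (k : ℕ) (t : Fin d → A), (∀ i j, y j ^ k * t i = y i ^ k * t j) → ∃ u, ∀ i, y i ^ k * u = t i) {M : Type u} [CommRing M] [Algebra A M]
    (hinj : ∀ (k : ℕ) (u : M), (∀ i, y i ^ k • u = 0) → u = 0)
    (hsat : ∀ (k : ℕ) (t : Fin d → M), (∀ i j, y j ^ k • t i = y i ^ k • t j) →
      ∃ u, ∀ i, y i ^ k • u = t i)
    (hloc : ∀ i, ∃ (R L : Type u) (_ : CommRing R) (_ : CommRing L) (_ : Algebra A R) (_ : Algebra M L)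
      (ψ : R →+* L), IsLocalization.Away (y i) R ∧ IsLocalization.Away (algebraMap A M (y i)) L ∧
        ψ.comp (algebraMap A R) = (algebraMap M L).comp (algebraMap A M) ∧ ψ.Finite ∧ ψ.Etale) :
    GrothLib.Purity.Punct A y M := by
  classical
  choose R L iR iL iAR iML ψ hR hL hcomm hfin het using hloc
  letI : ∀ i, CommRing (R i) := iR
  letI : ∀ i, CommRing (L i) := iL
  letI : ∀ i, Algebra A (R i) := iAR
  letI : ∀ i, Algebra M (L i) := iML
  letI : ∀ i, Algebra (R i) (L i) := fun i => (ψ i).toAlgebra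
  letI : ∀ i, Algebra A (L i) := fun i => ((algebraMap M (L i)).comp (algebraMap A M)).toAlgebra
  haveI : ∀ i, IsScalarTower A M (L i) := fun i => IsScalarTower.of_algebraMap_eq fun _ => rfl
  haveI : ∀ i, IsScalarTower A (R i) (L i) := fun i =>
    IsScalarTower.of_algebraMap_eq fun a => (RingHom.congr_fun (hcomm i) a).symm
  haveI := hR
  haveI := hL
  haveI : ∀ i, Module.Finite (R i) (L i) := hfin
  haveI : ∀ i, Algebra.Etale (R i) (L i) := het
  have hetA : ∀ i, Algebra.Etale A (Localization.Away (algebraMap A M (y i))) := fun i => by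
    haveI : Algebra.Etale A (R i) := Algebra.Etale.of_isLocalizationAway (y i)
    haveI : Algebra.Etale A (L i) := Algebra.Etale.comp A (R i) (L i)
    exact Algebra.Etale.of_equiv
      ((IsLocalization.algEquiv (Submonoid.powers (algebraMap A M (y i))) (L i) _).restrictScalars A)
  choose a m hspan hpow using fun i => exists_span_pow (R := R i) (M := M) (L := L i) (y i)
  -- bounded-denominator coordinates
  have main : ∀ i, ∃ (N : ℕ) (ι : M →ₗ[A] (Fin (a i) → A)),
      ∀ u, algebraMap M (L i) (∑ c, ι u c • m i c) = algebraMap M (L i) (y i ^ N • u) := by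
    intro i
    haveI : Module.FinitePresentation (R i) (L i) := Module.FinitePresentation.of_finite_of_finitePresentation _ _
    haveI : Module.Projective (R i) (L i) := Module.Flat.projective_of_finitePresentation
    let π : (Fin (a i) → R i) →ₗ[R i] L i := Fintype.linearCombination (R i) (fun c => algebraMap M (L i) (m i c))
    have hπ : Function.Surjective π := by
      rw [← LinearMap.range_eq_top, Fintype.range_linearCombination, hspan]
    obtain ⟨σ, hσ⟩ := Module.projective_lifting_property π LinearMap.id hπ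
    let f : M →ₗ[A] (Fin (a i) → R i) :=
      (σ.restrictScalars A).comp (IsScalarTower.toAlgHom A M (L i)).toLinearMap
    obtain ⟨E, hE⟩ : ∃ E, ∀ (x : A) (k : ℕ), y i ^ k * x = 0 → y i ^ E * x = 0 := by
      obtain ⟨E, hE⟩ := Groth.Agent.PurityLef21.exists_torsion_bound A (y i)
      exact ⟨E, fun x k h => by simpa using hE A k x (by simpa using h)⟩
    have hRi : ∀ x x' : A, algebraMap A (R i) x = algebraMap A (R i) x' → y i ^ E * x = y i ^ E * x' := by
      intro x x' h
      obtain ⟨⟨_, k, rfl⟩, hk⟩ := (IsLocalization.eq_iff_exists (Submonoid.powers (y i)) (R i)).1 h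
      rw [← sub_eq_zero, ← mul_sub]
      exact hE _ k (by rw [mul_sub, sub_eq_zero]; exact hk)
    obtain ⟨⟨_, N, rfl⟩, hN⟩ := IsLocalization.exist_integer_multiples_of_finite (Submonoid.powers (y i))
      (fun q : (Σ j, Fin (a j)) × Fin (a i) => f (m q.1.1 q.1.2) q.2)
    choose z hz using hN
    have hint : ∀ u e, ∃ x : A, algebraMap A (R i) x = y i ^ (E + N) • f u e := by
      intro u e
      choose k c hc using fun j => hpow j u
      let K := Finset.univ.sup k
      let z' : Fin d → A := fun j => y j ^ (K - k j) * ∑ e', c j e' * z (⟨j, e'⟩, e)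
      have h1 : ∀ j, algebraMap A (R i) (z' j) = y j ^ K • (y i ^ N • f u e) := fun j => by
        have h2 : y j ^ k j • (y i ^ N • f u e) = algebraMap A (R i) (∑ e', c j e' * z (⟨j, e'⟩, e)) := by
          rw [smul_comm, ← Pi.smul_apply (y j ^ k j) (f u) e, ← map_smul, hc, map_sum, Finset.sum_apply,
            Finset.smul_sum, map_sum]
          refine Finset.sum_congr rfl fun e' _ => ?_
          rw [map_smul, Pi.smul_apply, map_mul, hz, smul_comm, Algebra.smul_def (c j e')]
        rw [map_mul, ← h2, ← Algebra.smul_def, smul_smul, ← pow_add,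
          Nat.sub_add_cancel (Finset.le_sup (f := k) (Finset.mem_univ j))]
      obtain ⟨x, hx⟩ := hsatA K (fun j => y i ^ E * z' j) fun j l => by
        rw [mul_left_comm (y l ^ K), mul_left_comm (y j ^ K)]
        refine hRi _ _ ?_
        rw [map_mul (algebraMap A (R i)) (y l ^ K) (z' j), h1, map_mul (algebraMap A (R i)) (y j ^ K) (z' l), h1,
          ← Algebra.smul_def, ← Algebra.smul_def, smul_comm]
      refine ⟨x, (IsLocalization.map_units (R i) (⟨y i ^ K, K, rfl⟩ : Submonoid.powers (y i))).mul_left_cancel ?_⟩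
      show algebraMap A (R i) (y i ^ K) * _ = algebraMap A (R i) (y i ^ K) * _
      rw [← map_mul, hx i, map_mul, h1, ← Algebra.smul_def, ← Algebra.smul_def, smul_smul, smul_smul, smul_smul]
      congr 1
      ring
    choose x hx using hint
    let ι : M →ₗ[A] (Fin (a i) → A) :=
      { toFun := fun u e => y i ^ E * x u e
        map_add' := fun u v => funext fun e => by
          show _ = y i ^ E * x u e + y i ^ E * x v e
          rw [← mul_add]
          exact hRi _ _ (by simp [hx])
        map_smul' := fun r u => funext fun e => by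
          show _ = r * (y i ^ E * x u e)
          rw [mul_left_comm]
          refine hRi _ _ ?_
          simp only [hx, map_smul, Pi.smul_apply, map_mul]
          rw [← Algebra.smul_def, smul_comm] }
    refine ⟨E + (E + N), ι, fun u => ?_⟩
    have hmap : ∀ (r : A) (v : M), algebraMap M (L i) (r • v) = r • algebraMap M (L i) v := fun r v =>
      (IsScalarTower.toAlgHom A M (L i)).toLinearMap.map_smul r v
    have h2 : π (f u) = algebraMap M (L i) u := LinearMap.congr_fun hσ _
    rw [map_sum, hmap, ← h2, Fintype.linearCombination_apply, Finset.smul_sum]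
    refine Finset.sum_congr rfl fun e _ => ?_
    rw [hmap, ← algebraMap_smul (R i) (ι u e)]
    show algebraMap A (R i) (y i ^ E * x u e) • _ = _
    rw [map_mul, hx, ← Algebra.smul_def, smul_smul, ← pow_add, smul_assoc]
  choose N ι hι using main
  let Φ : M →ₗ[A] (∀ i, Fin (a i) → A) := LinearMap.pi ι
  have hΦ : Function.Injective Φ := by
    refine (injective_iff_map_eq_zero Φ).2 fun u hu => ?_
    have h1 : ∀ i, ∃ n, y i ^ n • u = 0 := fun i => by
      have h2 : algebraMap M (L i) (y i ^ N i • u) = 0 := by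
        rw [← hι i u]
        have : ι i u = 0 := congrFun hu i
        simp [this]
      obtain ⟨⟨_, n, rfl⟩, hn⟩ :=
        (IsLocalization.map_eq_zero_iff (Submonoid.powers (algebraMap A M (y i))) (L i) _).1 h2
      refine ⟨n + N i, ?_⟩
      rw [pow_add, mul_smul, Algebra.smul_def, map_pow]
      exact hn
    choose n hn using h1
    refine hinj (Finset.univ.sup n) u fun i => ?_
    rw [← Nat.sub_add_cancel (Finset.le_sup (f := n) (Finset.mem_univ i)), pow_add, mul_smul, hn, smul_zero]
  haveI hfinM : Module.Finite A M := Module.Finite.of_injective Φ hΦ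
  obtain ⟨r, gen, hgen⟩ := Module.Finite.exists_fin (R := A) (M := M)
  let π : ∀ i, (Fin (a i) → A) →ₗ[A] M := fun i => Fintype.linearCombination A (m i)
  have h3 : ∀ i l, ∃ n, y i ^ n • π i (ι i (gen l)) = y i ^ (n + N i) • gen l := fun i l => by
    obtain ⟨⟨_, n, rfl⟩, hn⟩ :=
      (IsLocalization.eq_iff_exists (Submonoid.powers (algebraMap A M (y i))) (L i)).1 (hι i (gen l))
    refine ⟨n, ?_⟩
    rw [pow_add, mul_smul, Algebra.smul_def (y i ^ n), Algebra.smul_def (y i ^ n), map_pow]
    rw [Fintype.linearCombination_apply]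
    exact hn
  choose n hn using h3
  obtain ⟨K, hK0, hK⟩ : ∃ K, 0 < K ∧ ∀ i l, n i l + N i ≤ K :=
    ⟨(Finset.univ.sup fun i => Finset.univ.sup fun l => n i l + N i) + 1, by omega, fun i l =>
      ((Finset.le_sup (f := fun l => n i l + N i) (Finset.mem_univ l)).trans
        (Finset.le_sup (f := fun i => Finset.univ.sup fun l => n i l + N i) (Finset.mem_univ i))).trans
        (by omega)⟩
  refine ⟨hfinM, hinj, hsat, ⟨K, hK0, fun i => ⟨a i, (y i ^ (K - N i)) • ι i, π i, fun t => ?_⟩⟩, hetA⟩
  have h4 : (π i).comp ((y i ^ (K - N i)) • ι i) = y i ^ K • LinearMap.id :=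
    LinearMap.ext_on hgen (by
      rintro _ ⟨l, rfl⟩
      have := hK i l
      show π i (y i ^ (K - N i) • ι i (gen l)) = y i ^ K • gen l
      rw [map_smul, show K - N i = (K - N i - n i l) + n i l by omega, pow_add, mul_smul, hn, ← mul_smul,
        ← pow_add]
      congr 2
      omega)
  exact LinearMap.congr_fun h4 t

end

theorem sat_of_depth (hdepth : (2 : ℕ∞) ≤ LocCoh.depth A A) {d : ℕ} {y : Fin d → A}
    (hy : maximalIdeal A ≤ (Ideal.span (Set.range y)).radical) (hym : ∀ i, y i ∈ maximalIdeal A) :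
    ∀ (k : ℕ) (t : Fin d → A), (∀ i j, y j ^ k * t i = y i ^ k * t j) → ∃ u, ∀ i, y i ^ k * u = t i := by
  letI : Algebra A Γ((FEt.puncturedSpec A : Scheme.{u}), ⊤) :=
    (secHom (MorphismProperty.Over.mk ⊤ (𝟙 (FEt.puncturedSpec A : Scheme.{u})) (prop_of _))).toAlgebra
  let U := FEt.puncturedSpec A
  let g : (U : Scheme.{u}) ⟶ (U : Scheme.{u}) := 𝟙 _
  haveI : CompactSpace (U : Scheme.{u}) := isCompact_iff_compactSpace.1 (NoetherianSpace.isCompact _)
  haveI : CompactSpace (U : Scheme.{u}) := QuasiCompact.compactSpace_of_compactSpace g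
  let f : (U : Scheme.{u}) ⟶ Spec (CommRingCat.of A) := g ≫ U.ι
  haveI : Etale f := inferInstance
  haveI : IsSeparated f := inferInstance
  haveI : (U : Scheme.{u}).IsSeparated := ⟨by rw [← terminal.comp_from f]; infer_instance⟩
  let D : Fin d → (Spec (CommRingCat.of A)).Opens := fun i => PrimeSpectrum.basicOpen (y i)
  let B : Fin d → (U : Scheme.{u}).Opens := fun i => (U : Scheme.{u}).basicOpen (secHom (MorphismProperty.Over.mk ⊤ (𝟙 (FEt.puncturedSpec A : Scheme.{u})) (prop_of _)) (y i))
  have hDle : ∀ i, D i ≤ U := fun i x hx h => by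
    obtain rfl : x = IsLocalRing.closedPoint A := h
    exact hx (hym i)
  have hB : ∀ i, f ⁻¹ᵁ D i = B i := fun i => by
    show f ⁻¹ᵁ _ = (U : Scheme.{u}).basicOpen (f.appTop _)
    rw [← Scheme.preimage_basicOpen_top]
    congr 1
    show D i = _
    rw [basicOpen_eq_of_affine', Iso.inv_hom_id_apply]
  have hcov : (⊤ : (U : Scheme.{u}).Opens) ≤ iSup B := fun v _ => by
    obtain ⟨i, hi⟩ : ∃ i, f v ∈ D i := by
      by_contra! h
      refine (g v).2 (show f v = IsLocalRing.closedPoint A from PrimeSpectrum.ext ?_)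
      refine ((maximalIdeal.isMaximal A).eq_of_le (f v).2.ne_top ?_).symm
      exact hy.trans ((Ideal.IsPrime.radical_le_iff (f v).2).2
        (Ideal.span_le.2 (Set.range_subset_iff.2 fun i => not_not.1 (h i))))
    exact Opens.mem_iSup.2 ⟨i, (hB i).le hi⟩
  letI : ∀ i, Algebra Γ((U : Scheme.{u}), ⊤) Γ((U : Scheme.{u}), B i) := fun i =>
    ((U : Scheme.{u}).presheaf.map (homOfLE le_top).op).hom.toAlgebra
  haveI hloc : ∀ i, IsLocalization.Away (algebraMap A Γ((U : Scheme.{u}), ⊤) (y i)) Γ((U : Scheme.{u}), B i) := fun i =>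
    isLocalization_basicOpen_of_qcqs isCompact_univ isQuasiSeparated_univ _
  have hu : ∀ i (k : ℕ) {W : (U : Scheme.{u}).Opens} (hW : W ≤ B i),
      IsUnit (((U : Scheme.{u}).presheaf.map (homOfLE (le_top : W ≤ ⊤)).op).hom (algebraMap A Γ((U : Scheme.{u}), ⊤) (y i) ^ k)) := by
    intro i k W hW
    have h1 : IsUnit (algebraMap Γ((U : Scheme.{u}), ⊤) Γ((U : Scheme.{u}), B i) (algebraMap A Γ((U : Scheme.{u}), ⊤) (y i) ^ k)) := by
      rw [map_pow]
      exact (IsLocalization.Away.algebraMap_isUnit _).pow k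
    have h2 := h1.map ((U : Scheme.{u}).presheaf.map (homOfLE hW).op).hom
    rwa [RingHom.algebraMap_toAlgebra, ← CommRingCat.comp_apply, ← Functor.map_comp] at h2
  have hinj : ∀ (k : ℕ) (u : Γ((U : Scheme.{u}), ⊤)), (∀ i, y i ^ k • u = 0) → u = 0 := fun k u hu' => by
    refine (U : Scheme.{u}).sheaf.eq_of_locally_eq' B ⊤ (fun i => homOfLE le_top) hcov _ _ fun i => ?_
    rw [map_zero]
    refine (hu i k (le_refl (B i))).mul_right_eq_zero.1 ?_
    show ((U : Scheme.{u}).presheaf.map _).hom _ * ((U : Scheme.{u}).presheaf.map _).hom u = 0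
    rw [← map_mul]
    have := hu' i
    rw [Algebra.smul_def, map_pow] at this
    rw [this, map_zero]
  have hsat : ∀ (k : ℕ) (t : Fin d → Γ((U : Scheme.{u}), ⊤)), (∀ i j, y j ^ k • t i = y i ^ k • t j) →
      ∃ u, ∀ i, y i ^ k • u = t i := by
    intro k t ht
    simp only [Algebra.smul_def, map_pow] at ht ⊢
    choose w hw using fun i => IsLocalization.Away.surj (algebraMap A Γ((U : Scheme.{u}), ⊤) (y i))
      (algebraMap Γ((U : Scheme.{u}), ⊤) Γ((U : Scheme.{u}), B i) (t i))
    let sf : ∀ i, Γ((U : Scheme.{u}), B i) := fun i => ↑(hu i k (le_refl (B i))).unit⁻¹ *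
      ((U : Scheme.{u}).presheaf.map (homOfLE (le_top : B i ≤ ⊤)).op).hom (t i)
    have hsf : ∀ i, ((U : Scheme.{u}).presheaf.map (homOfLE (le_top : B i ≤ ⊤)).op).hom
        (algebraMap A Γ((U : Scheme.{u}), ⊤) (y i) ^ k) * sf i =
        ((U : Scheme.{u}).presheaf.map (homOfLE (le_top : B i ≤ ⊤)).op).hom (t i) := fun i => by
      rw [← mul_assoc, (hu i k (le_refl (B i))).mul_val_inv, one_mul]
    have hres : ∀ i {W : (U : Scheme.{u}).Opens} (hW : W ≤ B i),
        ((U : Scheme.{u}).presheaf.map (homOfLE (le_top : W ≤ ⊤)).op).hom (algebraMap A Γ((U : Scheme.{u}), ⊤) (y i) ^ k) *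
          ((U : Scheme.{u}).presheaf.map (homOfLE hW).op).hom (sf i) =
        ((U : Scheme.{u}).presheaf.map (homOfLE (le_top : W ≤ ⊤)).op).hom (t i) := fun i W hW => by
      have h := congrArg ((U : Scheme.{u}).presheaf.map (homOfLE hW).op).hom (hsf i)
      rwa [map_mul, ← CommRingCat.comp_apply, ← CommRingCat.comp_apply, ← Functor.map_comp] at h
    have hcompat : TopCat.Presheaf.IsCompatible (U : Scheme.{u}).sheaf.1 B sf := fun i j => by
      show ((U : Scheme.{u}).presheaf.map (homOfLE inf_le_left).op).hom (sf i) =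
        ((U : Scheme.{u}).presheaf.map (homOfLE inf_le_right).op).hom (sf j)
      refine (hu i k (inf_le_left : B i ⊓ B j ≤ B i)).mul_left_cancel ?_
      rw [hres i inf_le_left]
      refine (hu j k (inf_le_right : B i ⊓ B j ≤ B j)).mul_left_cancel ?_
      rw [mul_left_comm, hres j inf_le_right, ← map_mul, ← map_mul]
      exact congrArg _ (ht i j)
    obtain ⟨u, hu', -⟩ := (U : Scheme.{u}).sheaf.existsUnique_gluing' B ⊤ (fun i => homOfLE le_top) hcov sf hcompat
    refine ⟨u, fun i => (U : Scheme.{u}).sheaf.eq_of_locally_eq' B ⊤ (fun j => homOfLE le_top) hcov _ _ fun j => ?_⟩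
    show ((U : Scheme.{u}).presheaf.map (homOfLE (le_top : B j ≤ ⊤)).op).hom _ =
      ((U : Scheme.{u}).presheaf.map (homOfLE (le_top : B j ≤ ⊤)).op).hom (t i)
    rw [map_mul, show ((U : Scheme.{u}).presheaf.map (homOfLE (le_top : B j ≤ ⊤)).op).hom u = sf j from hu' j]
    refine (hu j k (le_refl (B j))).mul_left_cancel ?_
    rw [mul_left_comm, hsf j, ← map_mul, ← map_mul]
    exact congrArg _ (ht i j).symm
  haveI := GrothLib.Depth.isIso_ι_appTop (depthTwoOutside_puncturedSpec A hdepth)
  have hbij : Function.Bijective (algebraMap A Γ((FEt.puncturedSpec A : Scheme.{u}), ⊤)) := by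
    show Function.Bijective ((Scheme.Hom.appTop (𝟙 (U : Scheme.{u}) ≫ U.ι)).hom.comp _)
    rw [Category.id_comp]
    exact (ConcreteCategory.bijective_of_isIso U.ι.appTop).comp
      (ConcreteCategory.bijective_of_isIso (Scheme.ΓSpecIso (CommRingCat.of A)).inv)
  intro k t ht
  obtain ⟨u, hu'⟩ := hsat k (fun i => algebraMap A _ (t i)) fun i j => by
    rw [Algebra.smul_def, Algebra.smul_def, ← map_mul, ← map_mul, ht]
  obtain ⟨u, rfl⟩ := hbij.2 u
  refine ⟨u, fun i => hbij.1 ?_⟩
  rw [map_mul, ← Algebra.smul_def]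
  exact hu' i

/-- The sections of a cover are finite étale off the closed point. -/
theorem punct_sections_depth (hdepth : (2 : ℕ∞) ≤ LocCoh.depth A A) {d : ℕ} {y : Fin d → A}
    (hy : maximalIdeal A ≤ (Ideal.span (Set.range y)).radical) (hym : ∀ i, y i ∈ maximalIdeal A)
    (V : FEt.Cat (FEt.puncturedSpec A : Scheme.{u})) :
    letI := (secHom V).toAlgebra
    GrothLib.Purity.Punct A y Γ(V.left, ⊤) := by
  letI := (secHom V).toAlgebra
  let U := FEt.puncturedSpec A
  let g : V.left ⟶ (U : Scheme.{u}) := V.hom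
  haveI : IsFinite g := V.prop.1
  haveI : Etale g := V.prop.2
  haveI : CompactSpace (U : Scheme.{u}) := isCompact_iff_compactSpace.1 (NoetherianSpace.isCompact _)
  haveI : CompactSpace V.left := QuasiCompact.compactSpace_of_compactSpace g
  let f : V.left ⟶ Spec (CommRingCat.of A) := g ≫ U.ι
  haveI : Etale f := inferInstance
  haveI : IsSeparated f := inferInstance
  haveI : V.left.IsSeparated := ⟨by rw [← terminal.comp_from f]; infer_instance⟩
  let D : Fin d → (Spec (CommRingCat.of A)).Opens := fun i => PrimeSpectrum.basicOpen (y i)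
  let B : Fin d → V.left.Opens := fun i => V.left.basicOpen (secHom V (y i))
  have hDle : ∀ i, D i ≤ U := fun i x hx h => by
    obtain rfl : x = IsLocalRing.closedPoint A := h
    exact hx (hym i)
  have hB : ∀ i, f ⁻¹ᵁ D i = B i := fun i => by
    show f ⁻¹ᵁ _ = V.left.basicOpen (f.appTop _)
    rw [← Scheme.preimage_basicOpen_top]
    congr 1
    show D i = _
    rw [basicOpen_eq_of_affine', Iso.inv_hom_id_apply]
  have hcov : (⊤ : V.left.Opens) ≤ iSup B := fun v _ => by
    obtain ⟨i, hi⟩ : ∃ i, f v ∈ D i := by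
      by_contra! h
      refine (g v).2 (show f v = IsLocalRing.closedPoint A from PrimeSpectrum.ext ?_)
      refine ((maximalIdeal.isMaximal A).eq_of_le (f v).2.ne_top ?_).symm
      exact hy.trans ((Ideal.IsPrime.radical_le_iff (f v).2).2
        (Ideal.span_le.2 (Set.range_subset_iff.2 fun i => not_not.1 (h i))))
    exact Opens.mem_iSup.2 ⟨i, (hB i).le hi⟩
  letI : ∀ i, Algebra Γ(V.left, ⊤) Γ(V.left, B i) := fun i =>
    (V.left.presheaf.map (homOfLE le_top).op).hom.toAlgebra
  haveI hloc : ∀ i, IsLocalization.Away (algebraMap A Γ(V.left, ⊤) (y i)) Γ(V.left, B i) := fun i =>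
    isLocalization_basicOpen_of_qcqs isCompact_univ isQuasiSeparated_univ _
  have hu : ∀ i (k : ℕ) {W : V.left.Opens} (hW : W ≤ B i),
      IsUnit ((V.left.presheaf.map (homOfLE (le_top : W ≤ ⊤)).op).hom (algebraMap A Γ(V.left, ⊤) (y i) ^ k)) := by
    intro i k W hW
    have h1 : IsUnit (algebraMap Γ(V.left, ⊤) Γ(V.left, B i) (algebraMap A Γ(V.left, ⊤) (y i) ^ k)) := by
      rw [map_pow]
      exact (IsLocalization.Away.algebraMap_isUnit _).pow k
    have h2 := h1.map (V.left.presheaf.map (homOfLE hW).op).hom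
    rwa [RingHom.algebraMap_toAlgebra, ← CommRingCat.comp_apply, ← Functor.map_comp] at h2
  have hinj : ∀ (k : ℕ) (u : Γ(V.left, ⊤)), (∀ i, y i ^ k • u = 0) → u = 0 := fun k u hu' => by
    refine V.left.sheaf.eq_of_locally_eq' B ⊤ (fun i => homOfLE le_top) hcov _ _ fun i => ?_
    rw [map_zero]
    refine (hu i k (le_refl (B i))).mul_right_eq_zero.1 ?_
    show (V.left.presheaf.map _).hom _ * (V.left.presheaf.map _).hom u = 0
    rw [← map_mul]
    have := hu' i
    rw [Algebra.smul_def, map_pow] at this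
    rw [this, map_zero]
  have hsat : ∀ (k : ℕ) (t : Fin d → Γ(V.left, ⊤)), (∀ i j, y j ^ k • t i = y i ^ k • t j) →
      ∃ u, ∀ i, y i ^ k • u = t i := by
    intro k t ht
    simp only [Algebra.smul_def, map_pow] at ht ⊢
    choose w hw using fun i => IsLocalization.Away.surj (algebraMap A Γ(V.left, ⊤) (y i))
      (algebraMap Γ(V.left, ⊤) Γ(V.left, B i) (t i))
    let sf : ∀ i, Γ(V.left, B i) := fun i => ↑(hu i k (le_refl (B i))).unit⁻¹ *
      (V.left.presheaf.map (homOfLE (le_top : B i ≤ ⊤)).op).hom (t i)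
    have hsf : ∀ i, (V.left.presheaf.map (homOfLE (le_top : B i ≤ ⊤)).op).hom
        (algebraMap A Γ(V.left, ⊤) (y i) ^ k) * sf i =
        (V.left.presheaf.map (homOfLE (le_top : B i ≤ ⊤)).op).hom (t i) := fun i => by
      rw [← mul_assoc, (hu i k (le_refl (B i))).mul_val_inv, one_mul]
    have hres : ∀ i {W : V.left.Opens} (hW : W ≤ B i),
        (V.left.presheaf.map (homOfLE (le_top : W ≤ ⊤)).op).hom (algebraMap A Γ(V.left, ⊤) (y i) ^ k) *
          (V.left.presheaf.map (homOfLE hW).op).hom (sf i) =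
        (V.left.presheaf.map (homOfLE (le_top : W ≤ ⊤)).op).hom (t i) := fun i W hW => by
      have h := congrArg (V.left.presheaf.map (homOfLE hW).op).hom (hsf i)
      rwa [map_mul, ← CommRingCat.comp_apply, ← CommRingCat.comp_apply, ← Functor.map_comp] at h
    have hcompat : TopCat.Presheaf.IsCompatible V.left.sheaf.1 B sf := fun i j => by
      show (V.left.presheaf.map (homOfLE inf_le_left).op).hom (sf i) =
        (V.left.presheaf.map (homOfLE inf_le_right).op).hom (sf j)
      refine (hu i k (inf_le_left : B i ⊓ B j ≤ B i)).mul_left_cancel ?_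
      rw [hres i inf_le_left]
      refine (hu j k (inf_le_right : B i ⊓ B j ≤ B j)).mul_left_cancel ?_
      rw [mul_left_comm, hres j inf_le_right, ← map_mul, ← map_mul]
      exact congrArg _ (ht i j)
    obtain ⟨u, hu', -⟩ := V.left.sheaf.existsUnique_gluing' B ⊤ (fun i => homOfLE le_top) hcov sf hcompat
    refine ⟨u, fun i => V.left.sheaf.eq_of_locally_eq' B ⊤ (fun j => homOfLE le_top) hcov _ _ fun j => ?_⟩
    show (V.left.presheaf.map (homOfLE (le_top : B j ≤ ⊤)).op).hom _ =
      (V.left.presheaf.map (homOfLE (le_top : B j ≤ ⊤)).op).hom (t i)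
    rw [map_mul, show (V.left.presheaf.map (homOfLE (le_top : B j ≤ ⊤)).op).hom u = sf j from hu' j]
    refine (hu j k (le_refl (B j))).mul_left_cancel ?_
    rw [mul_left_comm, hsf j, ← map_mul, ← map_mul]
    exact congrArg _ (ht i j).symm
  refine punct_of_local_sat (sat_of_depth hdepth hy hym) hinj hsat fun i => ?_
  have hDa : IsAffineOpen (D i) := IsAffineOpen.Spec_basicOpen (R := CommRingCat.of A) (y i)
  have hDU : IsAffineOpen (U.ι ⁻¹ᵁ D i) :=
    hDa.preimage_of_isOpenImmersion U.ι (by rw [Scheme.Opens.opensRange_ι]; exact hDle i)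
  have hBa : IsAffineOpen (B i) := hB i ▸ hDU.preimage g
  have hfin : (f.app (D i)).hom.Finite := by
    haveI : IsIso (U.ι.app (D i)) := U.ι.isIso_app _ (by rw [Scheme.Opens.opensRange_ι]; exact hDle i)
    rw [Scheme.Hom.comp_app, CommRingCat.hom_comp]
    exact RingHom.Finite.comp (g.finite_app _ hDU)
      (RingHom.Finite.of_surjective _ (ConcreteCategory.bijective_of_isIso (U.ι.app (D i))).2)
  refine ⟨Γ(Spec (CommRingCat.of A), D i), Γ(V.left, B i), inferInstance, inferInstance,
    specAlgebra (CommRingCat.of A) (D i),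
    inferInstance, (f.appLE (D i) (B i) (hB i).ge).hom,
    isLocalization_specBasicOpen (CommRingCat.of A) (y i), hloc i, ?_, ?_, ?_⟩
  · ext a
    letI : Algebra A Γ(Spec (CommRingCat.of A), D i) := specAlgebra (CommRingCat.of A) (D i)
    have e : (Spec (CommRingCat.of A)).presheaf.map (homOfLE (le_top : D i ≤ ⊤)).op ≫
        f.appLE (D i) (B i) (hB i).ge = f.appTop ≫ V.left.presheaf.map (homOfLE (le_top : B i ≤ ⊤)).op := by
      rw [Scheme.Hom.map_appLE]
      rfl
    exact congr($(e).hom ((Scheme.ΓSpecIso (CommRingCat.of A)).inv.hom a))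
  · rw [Scheme.Hom.appLE, CommRingCat.hom_comp]
    exact RingHom.Finite.comp (RingHom.Finite.of_surjective _
      (by
        haveI : IsIso (homOfLE (hB i).ge) := ⟨homOfLE (hB i).le, Subsingleton.elim _ _, Subsingleton.elim _ _⟩
        exact (ConcreteCategory.bijective_of_isIso (V.left.presheaf.map (homOfLE (hB i).ge).op)).2)) hfin
  · exact HasRingHomProperty.appLE @Etale f inferInstance ⟨_, hDa⟩ ⟨_, hBa⟩ (hB i).ge

/-- The sections of a cover of the punctured spectrum form a finite algebra in depth two. -/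
theorem finite_sections_depth (hdepth : (2 : ℕ∞) ≤ LocCoh.depth A A)
    (V : FEt.Cat (FEt.puncturedSpec A : Scheme.{u})) : (secHom V).Finite := by
  obtain ⟨d, y, hy⟩ : ∃ (d : ℕ) (y : Fin d → A), Ideal.span (Set.range y) = maximalIdeal A :=
    Submodule.fg_iff_exists_fin_generating_family.mp (IsNoetherian.noetherian (maximalIdeal A))
  letI := (secHom V).toAlgebra
  exact (punct_sections_depth hdepth (y := y) (hy.ge.trans Ideal.le_radical)
    (fun i => hy.le (Ideal.subset_span ⟨i, rfl⟩)) V).finite

end GrothLib.FEt21
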