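import Groth.Agent.PurityLef21.Completion
import Groth.Agent.PurityLef21.PunctDepth
import Groth.Agent.Lib.Torsor21.HartogsQC

/-!
# Purity for formal power series over a local ring of depth two
-/

set_option autoImplicit false
set_option backward.isDefEq.respectTransparency false
set_option linter.style.haveILetI false

universe u

open CategoryTheory CategoryTheory.Limits AlgebraicGeometry TopologicalSpace Opposite

noncomputable section

namespace Groth.Agent.PurityLef21

open GlueCompl21 (structHom)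
open GrothLib.FEt21 (restrictCompIso)

/-- The graded pieces of the adic filtration of the variable are free. -/
theorem free_gr_X (A : Type u) [CommRing A] (n : ℕ) :
    Module.Free (PowerSeries A ⧸ Ideal.span {(PowerSeries.X : PowerSeries A)})
      (↥(Ideal.span {(PowerSeries.X : PowerSeries A)} ^ n) ⧸
        (Ideal.span {(PowerSeries.X : PowerSeries A)} •
          (⊤ : Submodule (PowerSeries A) ↥(Ideal.span {(PowerSeries.X : PowerSeries A)} ^ n)))) := by
  let X : PowerSeries A := PowerSeries.X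
  let J := Ideal.span {X}
  let N := (J • (⊤ : Submodule (PowerSeries A) ↥(J ^ n)))
  let g : ↥(J ^ n) := ⟨X ^ n, Ideal.pow_mem_pow (Ideal.mem_span_singleton_self X) n⟩
  let l := LinearMap.toSpanSingleton (PowerSeries A ⧸ J) (↥(J ^ n) ⧸ N) (Submodule.Quotient.mk g)
  have hl : ∀ b : PowerSeries A, l (Ideal.Quotient.mk J b) = Submodule.Quotient.mk (b • g) := fun b => rfl
  have hXn : ∀ b c : PowerSeries A, X ^ n * b = X ^ n * c → b = c := fun b c h => PowerSeries.ext fun i => by
    have := congrArg (PowerSeries.coeff (i + n)) h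
    rwa [PowerSeries.coeff_X_pow_mul, PowerSeries.coeff_X_pow_mul] at this
  refine Module.Free.of_equiv (LinearEquiv.ofBijective l ⟨(injective_iff_map_eq_zero l).2 fun q hq => ?_, fun m => ?_⟩)
  · obtain ⟨b, rfl⟩ := Ideal.Quotient.mk_surjective q
    rw [hl, Submodule.Quotient.mk_eq_zero] at hq
    have h1 : ((b • g : ↥(J ^ n)) : PowerSeries A) ∈ N.map (J ^ n).subtype := Submodule.mem_map_of_mem hq
    rw [Submodule.map_smul'', Submodule.map_top, Submodule.range_subtype, smul_eq_mul, ← pow_succ',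
      Ideal.span_singleton_pow, Ideal.mem_span_singleton] at h1
    obtain ⟨c, hc⟩ := h1
    refine Ideal.Quotient.eq_zero_iff_mem.2 (Ideal.mem_span_singleton.2 ⟨c, hXn _ _ ?_⟩)
    show X ^ n * b = X ^ n * (X * c)
    rw [← mul_assoc, ← pow_succ, ← hc, mul_comm]
    rfl
  · obtain ⟨m, rfl⟩ := Submodule.Quotient.mk_surjective _ m
    have hm : (m : PowerSeries A) ∈ Ideal.span {X ^ n} := Ideal.span_singleton_pow X n ▸ m.2
    obtain ⟨c, hc⟩ := Ideal.mem_span_singleton.1 hm
    refine ⟨Ideal.Quotient.mk J c, (hl c).trans (congrArg _ (Subtype.ext ?_))⟩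
    show c * X ^ n = m
    rw [hc, mul_comm]

variable (A : Type u) [CommRing A] [IsNoetherianRing A] [IsLocalRing A]

/-- Purity for formal power series in one variable over a local ring of depth two. -/
theorem purityHolds_powerSeries (hA : (2 : ℕ∞) ≤ LocCoh.depth A A) : FEt.PurityHolds (PowerSeries A) := by
  refine ⟨fun V => ?_⟩
  let B := PowerSeries A
  let J : Ideal B := Ideal.span {(PowerSeries.X : B)}
  have hJf : ∀ f : B, f ∈ J ↔ PowerSeries.constantCoeff f = 0 := fun f => by
    rw [show (f ∈ J ↔ _) from Ideal.mem_span_singleton, PowerSeries.X_dvd_iff]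
  have hXm : (PowerSeries.X : B) ∈ IsLocalRing.maximalIdeal B := fun h =>
    (IsLocalRing.maximalIdeal.isMaximal A).ne_top (by
      simpa using PowerSeries.isUnit_iff_constantCoeff.1 h)
  haveI : IsAdicComplete J B := inferInstance
  haveI : Module.Flat A B := flat_powerSeries' A
  have hAB : ∀ a : A, algebraMap A B a = PowerSeries.C a := fun a => rfl
  haveI hlocAB : IsLocalHom (algebraMap A B) := ⟨fun a ha => by
    simpa [hAB] using PowerSeries.isUnit_iff_constantCoeff.1 ha⟩
  -- the base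
  let SA := Spec (CommRingCat.of A)
  let SB := Spec (CommRingCat.of B)
  let UA := FEt.puncturedSpec A
  let UB := FEt.puncturedSpec B
  let π : SB ⟶ SA := Spec.map (CommRingCat.ofHom (algebraMap A B))
  let s : SA ⟶ SB := Spec.map (CommRingCat.ofHom (PowerSeries.constantCoeff (R := A)))
  have hsπ : s ≫ π = 𝟙 SA := by
    show Spec.map _ ≫ Spec.map _ = _
    rw [← Spec.map_comp, ← CommRingCat.ofHom_comp, show (PowerSeries.constantCoeff (R := A)).comp
      (algebraMap A B) = RingHom.id A from RingHom.ext fun a => PowerSeries.constantCoeff_C a]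
    exact Spec.map_id _
  haveI : IsNoetherianRing (CommRingCat.of A) := inferInstanceAs (IsNoetherianRing A)
  haveI : IsNoetherianRing (CommRingCat.of B) := inferInstanceAs (IsNoetherianRing B)
  haveI : CompactSpace (UA : Scheme.{u}) := isCompact_iff_compactSpace.1 (NoetherianSpace.isCompact _)
  let W := pullback UA.ι π
  let w₁ : W ⟶ (UA : Scheme.{u}) := pullback.fst UA.ι π
  let w₂ : W ⟶ SB := pullback.snd UA.ι π
  haveI : CompactSpace W := QuasiCompact.compactSpace_of_compactSpace w₂
  haveI : W.IsQuasiAffine := Scheme.IsQuasiAffine.of_isImmersion w₂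
  have hπclosed : π (IsLocalRing.closedPoint B) = IsLocalRing.closedPoint A :=
    IsLocalRing.comap_closedPoint (algebraMap A B)
  have hW : Set.range w₂ ⊆ Set.range UB.ι := by
    rintro _ ⟨x, rfl⟩
    rw [Scheme.Opens.range_ι]
    intro hx
    have h1 : π (w₂ x) = IsLocalRing.closedPoint A := by
      rw [show w₂ x = IsLocalRing.closedPoint B from hx, hπclosed]
    refine (w₁ x).2 ?_
    show UA.ι (w₁ x) = IsLocalRing.closedPoint A
    rw [← Scheme.Hom.comp_apply, show w₁ ≫ UA.ι = w₂ ≫ π from pullback.condition, Scheme.Hom.comp_apply, h1]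
  let ιW : W ⟶ (UB : Scheme.{u}) := IsOpenImmersion.lift UB.ι w₂ hW
  have hιW : ιW ≫ UB.ι = w₂ := IsOpenImmersion.lift_fac _ _ _
  let VW : FEt.Cat W := (FEt.restrict ιW).obj V
  let σ : (UA : Scheme.{u}) ⟶ W := pullback.lift (𝟙 _) (UA.ι ≫ s)
    (by rw [Category.assoc, hsπ, Category.comp_id, Category.id_comp])
  let V₀ : FEt.Cat (UA : Scheme.{u}) := (FEt.restrict σ).obj VW
  let Y : FEt.Cat W := (FEt.restrict w₁).obj V₀
  -- the tower
  let cl : ∀ n, Spec (CommRingCat.of (B ⧸ J ^ (n + 1))) ⟶ SB := fun n =>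
    Spec.map (CommRingCat.ofHom (Ideal.Quotient.mk (J ^ (n + 1))))
  let Z : ℕ → Scheme.{u} := fun n => pullback w₂ (cl n)
  let t : ∀ n, Z n ⟶ W := fun n => pullback.fst w₂ (cl n)
  let k : ∀ n, Spec (CommRingCat.of (B ⧸ J ^ (n + 1))) ⟶ Spec (CommRingCat.of (B ⧸ J ^ (n + 2))) := fun n =>
    Spec.map (CommRingCat.ofHom (Ideal.Quotient.factor (Ideal.pow_le_pow_right (Nat.le_succ (n + 1)))))
  have hk : ∀ n, k n ≫ cl (n + 1) = cl n := fun n => by
    show Spec.map _ ≫ Spec.map _ = Spec.map _
    rw [← Spec.map_comp, ← CommRingCat.ofHom_comp, Ideal.Quotient.factor_comp_mk]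
  have hKle : ∀ n, J ^ (n + 2) ≤ J ^ (n + 1) := fun n => Ideal.pow_le_pow_right (Nat.le_succ (n + 1))
  haveI : ∀ n, IsClosedImmersion (k n) := fun n =>
    IsClosedImmersion.spec_of_surjective _ (Ideal.Quotient.factor_surjective (hKle n))
  haveI : ∀ n, Surjective (k n) := fun n => ⟨fun x => by
    have hle : RingHom.ker (Ideal.Quotient.factor (hKle n)) ≤ x.asIdeal := fun y hy => by
      obtain ⟨y, rfl⟩ := Ideal.Quotient.mk_surjective y
      rw [RingHom.mem_ker, Ideal.Quotient.factor_mk, Ideal.Quotient.eq_zero_iff_mem] at hy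
      refine x.2.mem_of_pow_mem 2 ?_
      rw [← map_pow, Ideal.Quotient.eq_zero_iff_mem.2]
      · exact zero_mem _
      have := Ideal.pow_mem_pow hy 2
      rw [← pow_mul] at this
      exact Ideal.pow_le_pow_right (by omega) this
    exact (range_comap_of_surjective _ _ (Ideal.Quotient.factor_surjective (hKle n))).ge hle⟩
  let i : ∀ n, Z n ⟶ Z (n + 1) := fun n =>
    pullback.lift (pullback.fst _ _) (pullback.snd _ _ ≫ k n) (by rw [Category.assoc, hk, pullback.condition])
  have hi : ∀ n, i n ≫ t (n + 1) = t n := fun n => pullback.lift_fst _ _ _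
  have sqi : ∀ n, IsPullback (i n) (pullback.snd w₂ (cl n)) (pullback.snd w₂ (cl (n + 1))) (k n) := fun n => by
    refine IsPullback.of_right (h₁₂ := pullback.fst w₂ (cl (n + 1))) (v₁₃ := w₂) (h₂₂ := cl (n + 1)) ?_
      (pullback.lift_snd _ _ _) (IsPullback.of_hasPullback w₂ (cl (n + 1)))
    rw [hk, hi]
    exact IsPullback.of_hasPullback w₂ (cl n)
  haveI : ∀ n, IsClosedImmersion (i n) := fun n => MorphismProperty.of_isPullback (sqi n).flip inferInstance
  haveI : ∀ n, Surjective (i n) := fun n => MorphismProperty.of_isPullback (sqi n).flip inferInstance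
  have hflat : ∀ n : ℕ, Module.Flat A (B ⧸ J ^ (n + 1)) := fun n => flat_quotient_X_pow A (n + 1)
  have hUu : ∀ e : Γ(W, ⊤), (∀ n, (t n).appTop e = 0) → e = 0 := by
    refine (sections_complete J hflat UA.ι ?_ w₁ w₂ (IsPullback.of_hasPullback UA.ι π) Z t
      (fun n => pullback.snd w₂ (cl n)) (fun n => IsPullback.of_hasPullback w₂ (cl n)) i hi).2
    haveI := GrothLib.Depth.isIso_ι_appTop (GrothLib.FEt21.depthTwoOutside_puncturedSpec A hA)
    exact RingHom.Finite.comp (RingHom.Finite.of_surjective _ (ConcreteCategory.bijective_of_isIso UA.ι.appTop).2)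
      (RingHom.Finite.of_surjective _ (ConcreteCategory.bijective_of_isIso (Scheme.ΓSpecIso (CommRingCat.of A)).inv).2)
  -- the sections of the cover
  let v₀ : V₀.left ⟶ (UA : Scheme.{u}) := V₀.hom
  haveI : IsFinite v₀ := V₀.prop.1
  let y : pullback v₀ w₁ ⟶ W := pullback.snd v₀ w₁
  have hY := sections_complete J hflat (v₀ ≫ UA.ι) (GrothLib.FEt21.finite_sections_depth hA V₀)
    (pullback.fst v₀ w₁) (y ≫ w₂)
    ((IsPullback.of_hasPullback v₀ w₁).paste_vert (IsPullback.of_hasPullback UA.ι π))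
    (fun n => pullback y (t n)) (fun n => pullback.fst y (t n))
    (fun n => pullback.snd y (t n) ≫ pullback.snd w₂ (cl n))
    (fun n => (IsPullback.of_hasPullback y (t n)).paste_vert (IsPullback.of_hasPullback w₂ (cl n)))
    (step t i hi y) (fun n => pullback.lift_fst _ _ _)
  have hcl₀ : cl 0 ≫ π ≫ s = cl 0 := by
    show Spec.map _ ≫ Spec.map _ ≫ Spec.map _ = Spec.map _
    rw [← Spec.map_comp, ← Spec.map_comp, ← CommRingCat.ofHom_comp, ← CommRingCat.ofHom_comp]
    congr 2
    refine RingHom.ext fun f => ?_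
    show Ideal.Quotient.mk (J ^ (0 + 1)) (algebraMap A B (PowerSeries.constantCoeff f)) = _
    rw [Ideal.Quotient.eq, zero_add, pow_one, hJf, hAB, map_sub, PowerSeries.constantCoeff_C, sub_self]
  have ht₀ : (t 0 ≫ w₁) ≫ σ = t 0 := by
    apply pullback.hom_ext
    · show ((t 0 ≫ w₁) ≫ σ) ≫ w₁ = t 0 ≫ w₁
      rw [Category.assoc, show σ ≫ w₁ = 𝟙 _ from pullback.lift_fst _ _ _, Category.comp_id]
    · show ((t 0 ≫ w₁) ≫ σ) ≫ w₂ = t 0 ≫ w₂
      rw [Category.assoc, show σ ≫ w₂ = UA.ι ≫ s from pullback.lift_snd _ _ _, Category.assoc,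
        ← Category.assoc w₁, show w₁ ≫ UA.ι = w₂ ≫ π from pullback.condition,
        show t 0 ≫ w₂ = pullback.snd w₂ (cl 0) ≫ cl 0 from pullback.condition, Category.assoc,
        reassoc_of% (show t 0 ≫ w₂ = pullback.snd w₂ (cl 0) ≫ cl 0 from pullback.condition), hcl₀]
  let e₀ : (FEt.restrict (t 0)).obj Y ≅ (FEt.restrict (t 0)).obj VW :=
    (restrictCompIso (t 0) w₁ _ rfl V₀).symm ≪≫ (restrictCompIso (t 0 ≫ w₁) σ (t 0) ht₀ VW).symm
  obtain ⟨θ⟩ := nonempty_iso t i hi Y VW hY.1 hY.2 hUu e₀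
  -- descent from a localisation
  let r : B →+* PowerSeries (IsLocalRing.ResidueField A) := PowerSeries.map (IsLocalRing.residue A)
  let ξ : Ideal B := RingHom.ker r
  haveI : ξ.IsPrime := RingHom.ker_isPrime r
  have hXξ : (PowerSeries.X : B) ∉ ξ := fun h => PowerSeries.X_ne_zero
    ((PowerSeries.map_X _).symm.trans (RingHom.mem_ker.1 h))
  let R := Localization.AtPrime ξ
  let f : Spec (CommRingCat.of R) ⟶ SA := Spec.map (CommRingCat.ofHom (algebraMap A R))
  let loc : Spec (CommRingCat.of R) ⟶ SB := Spec.map (CommRingCat.ofHom (algebraMap B R))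
  have hloc : loc ≫ π = f := by
    show Spec.map _ ≫ Spec.map _ = Spec.map _
    rw [← Spec.map_comp, ← CommRingCat.ofHom_comp, ← IsScalarTower.algebraMap_eq]
  haveI : Module.Flat B R := IsLocalization.flat R ξ.primeCompl
  haveI : Module.Flat A R := Module.Flat.trans A B R
  haveI : IsLocalHom (algebraMap A R) := ⟨fun a ha => by
    by_contra hna
    rw [IsScalarTower.algebraMap_apply A B R, IsLocalization.AtPrime.isUnit_to_map_iff R ξ] at ha
    refine ha ?_
    show r (algebraMap A B a) = 0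
    rw [hAB]
    show PowerSeries.map _ (PowerSeries.C a) = 0
    rw [PowerSeries.map_C, (IsLocalRing.residue_eq_zero_iff a).2 hna, map_zero]⟩
  haveI : Flat f := by
    rw [HasRingHomProperty.Spec_iff (P := @Flat)]
    exact RingHom.flat_algebraMap_iff.2 inferInstance
  haveI : Surjective f := by
    haveI := Module.FaithfullyFlat.of_flat_of_isLocalHom (A := A) (B := R)
    exact ⟨PrimeSpectrum.comap_surjective_of_faithfullyFlat⟩
  have hlocU : Set.range loc ⊆ Set.range UB.ι := by
    rintro _ ⟨x, rfl⟩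
    rw [Scheme.Opens.range_ι]
    intro hx
    have h1 : Ideal.comap (algebraMap B R) x.asIdeal ≤ ξ := by
      exact (Ideal.comap_mono (IsLocalRing.le_maximalIdeal x.2.ne_top)).trans
        (IsLocalization.AtPrime.comap_maximalIdeal R ξ).le
    refine hXξ (h1 ?_)
    rw [show Ideal.comap (algebraMap B R) x.asIdeal = IsLocalRing.maximalIdeal B from
      congrArg PrimeSpectrum.asIdeal (show loc x = IsLocalRing.closedPoint B from hx)]
    exact hXm
  let ℓ : Spec (CommRingCat.of R) ⟶ (UB : Scheme.{u}) := IsOpenImmersion.lift UB.ι loc hlocU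
  let m : pullback UA.ι f ⟶ W := pullback.lift (pullback.fst _ _) (pullback.snd _ _ ≫ loc)
    (by rw [Category.assoc, hloc, pullback.condition])
  have hm : pullback.snd UA.ι f ≫ ℓ = m ≫ ιW := by
    rw [← cancel_mono UB.ι, Category.assoc, Category.assoc, IsOpenImmersion.lift_fac, hιW]
    exact (pullback.lift_snd _ _ _).symm
  let e₁ : (FEt.restrict (pullback.snd UA.ι f)).obj ((FEt.restrict ℓ).obj V) ≅
      (FEt.restrict (pullback.fst UA.ι f)).obj V₀ :=
    (restrictCompIso (pullback.snd UA.ι f) ℓ _ rfl V).symm ≪≫ restrictCompIso m ιW _ hm.symm V ≪≫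
      (FEt.restrict m).mapIso θ.symm ≪≫
      (restrictCompIso m w₁ (pullback.fst UA.ι f) (pullback.lift_fst _ _ _) V₀).symm
  obtain ⟨YA, ⟨eA⟩⟩ := FpqcPure21.exists_extension_of_flat_descent UA.ι f
    (GrothLib.FEt21.app_ι_bijective_of_depthTwo (GrothLib.FEt21.depthTwoOutside_puncturedSpec A hA))
    V₀ ((FEt.restrict ℓ).obj V) e₁
  -- lift along the variable
  let clJ : Spec (CommRingCat.of (B ⧸ J)) ⟶ SB := Spec.map (CommRingCat.ofHom (Ideal.Quotient.mk J))
  let T₀ := pullback UB.ι clJ
  have hT : Set.range (pullback.snd UB.ι clJ ≫ clJ ≫ π) ⊆ Set.range UA.ι := by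
    rintro _ ⟨x, rfl⟩
    rw [Scheme.Opens.range_ι]
    intro hx
    let P := clJ (pullback.snd UB.ι clJ x)
    have hP : P ≠ IsLocalRing.closedPoint B := fun h => (pullback.fst UB.ι clJ x).2 (by
      show UB.ι (pullback.fst UB.ι clJ x) = IsLocalRing.closedPoint B
      rw [← Scheme.Hom.comp_apply, pullback.condition, Scheme.Hom.comp_apply]
      exact h)
    have hx' : Ideal.comap (algebraMap A B) P.asIdeal = IsLocalRing.maximalIdeal A :=
      congrArg PrimeSpectrum.asIdeal (show π P = IsLocalRing.closedPoint A from hx)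
    have hJP : J ≤ P.asIdeal := by
      intro b hb
      show Ideal.Quotient.mk J b ∈ (pullback.snd UB.ι clJ x).asIdeal
      rw [Ideal.Quotient.eq_zero_iff_mem.2 hb]
      exact zero_mem _
    refine hP (PrimeSpectrum.ext ((IsLocalRing.maximalIdeal.isMaximal B).eq_of_le P.2.ne_top fun b hb => ?_).symm)
    have h2 : algebraMap A B (PowerSeries.constantCoeff b) ∈ P.asIdeal := by
      rw [← Ideal.mem_comap, hx']
      exact fun h => hb (PowerSeries.isUnit_iff_constantCoeff.2 h)
    have h3 : b - algebraMap A B (PowerSeries.constantCoeff b) ∈ P.asIdeal := hJP (by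
      rw [hJf, hAB, map_sub, PowerSeries.constantCoeff_C, sub_self])
    simpa using add_mem h3 h2
  let a : T₀ ⟶ (UA : Scheme.{u}) := IsOpenImmersion.lift UA.ι _ hT
  have ha : a ≫ UA.ι = pullback.snd UB.ι clJ ≫ clJ ≫ π := IsOpenImmersion.lift_fac _ _ _
  let ω : T₀ ⟶ W := pullback.lift a (pullback.snd UB.ι clJ ≫ clJ) (by rw [ha, Category.assoc])
  have hω : ω ≫ ιW = pullback.fst UB.ι clJ := by
    rw [← cancel_mono UB.ι, Category.assoc, hιW]
    exact (pullback.lift_snd _ _ _).trans pullback.condition.symm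
  let e : (FEt.restrict (pullback.snd UB.ι clJ)).obj ((FEt.restrict (clJ ≫ π)).obj YA) ≅
      (FEt.restrict (pullback.fst UB.ι clJ)).obj V :=
    (restrictCompIso (pullback.snd UB.ι clJ) (clJ ≫ π) _ rfl YA).symm ≪≫ restrictCompIso a UA.ι _ ha YA ≪≫
      (FEt.restrict a).mapIso eA ≪≫ restrictCompIso ω w₁ a (pullback.lift_fst _ _ _) V₀ ≪≫
      (FEt.restrict ω).mapIso θ ≪≫ (restrictCompIso ω ιW _ hω V).symm
  haveI hne : Nontrivial (B ⧸ J) := Ideal.Quotient.nontrivial_iff.2 fun h =>
    (IsLocalRing.maximalIdeal.isMaximal B).ne_top (top_le_iff.1 (h ▸ (Ideal.span_singleton_le_iff_mem _).2 hXm))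
  haveI : IsLocalRing (B ⧸ J) := IsLocalRing.of_surjective' _ Ideal.Quotient.mk_surjective
  let eBA : (B ⧸ J) ≃+* A := (Ideal.quotEquivOfEq (show J = RingHom.ker (PowerSeries.constantCoeff (R := A)) from
    Ideal.ext fun f => (hJf f).trans RingHom.mem_ker.symm)).trans
      (RingHom.quotientKerEquivOfSurjective fun a => ⟨PowerSeries.C a, PowerSeries.constantCoeff_C a⟩)
  obtain ⟨Yext, hYext⟩ := exists_extension_of_grFree B J (two_le_depth_mvPowerSeries A Unit hA)
    (hA.trans (GrothLib.HartogsQC.depth_eq_of_ringEquiv eBA).ge) (free_gr_X A) V ((FEt.restrict (clJ ≫ π)).obj YA) e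
  exact ⟨Yext, hYext⟩

end Groth.Agent.PurityLef21
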