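import Groth.Agent.PurityLef21.Core
import Groth.Agent.FpqcPure21.Descend
import Groth.Agent.Lib.FEt21.DepthTwo
import Groth.Agent.Lib.FEt21.Henselian
import Groth.Agent.Lib.RamSam.ModuleTriv
import Mathlib.RingTheory.TensorProduct.Quotient
import Groth.Agent.Lib.AdicExtra.Complete
import Groth.Agent.Lib.AdicExtra.Completion
import Groth.Agent.Lib.AdicLim.Finite
import Mathlib.RingTheory.AdicCompletion.AsTensorProduct

/-!
# Extension of covers of a punctured spectrum along an ideal with free graded pieces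
-/

set_option autoImplicit false
set_option backward.isDefEq.respectTransparency false
set_option linter.style.haveILetI false

universe u

open CategoryTheory CategoryTheory.Limits AlgebraicGeometry TopologicalSpace Opposite

noncomputable section

namespace Groth.Agent.PurityLef21

open GrothLib.FEt21 (restrictCompIso)

/-- A regular pair from depth two. -/
theorem exists_regular_pair {A : Type u} [CommRing A] [IsLocalRing A] [IsNoetherianRing A]
    (h : (2 : ℕ∞) ≤ LocCoh.depth A A) :
    ∃ x y : A, x ∈ IsLocalRing.maximalIdeal A ∧ y ∈ IsLocalRing.maximalIdeal A ∧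
      (∀ c, x * c = 0 → c = 0) ∧ ∀ c c', x * c' = y * c → x ∣ c := by
  have hne : IsLocalRing.maximalIdeal A • (⊤ : Submodule A A) ≠ ⊤ := by
    rw [smul_eq_mul, Ideal.mul_top]
    exact (IsLocalRing.maximalIdeal.isMaximal A).ne_top
  obtain ⟨rs, hlen, hmem, hreg⟩ := (GrothLib.Depth.le_idealDepth_iff_exists (IsLocalRing.maximalIdeal A) hne 2).1 h
  obtain ⟨x, y, rfl⟩ := List.length_eq_two.1 hlen
  rw [RingTheory.Sequence.isWeaklyRegular_cons_iff, RingTheory.Sequence.isWeaklyRegular_cons_iff] at hreg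
  refine ⟨x, y, hmem x (by simp), hmem y (by simp), fun c hc => hreg.1 (hc.trans (mul_zero x).symm), fun c c' he => ?_⟩
  have h0 : (Submodule.Quotient.mk c : QuotSMulTop x A) = 0 := by
    refine hreg.2.1 ?_
    show y • (Submodule.Quotient.mk c : QuotSMulTop x A) = y • 0
    rw [smul_zero, ← Submodule.Quotient.mk_smul, Submodule.Quotient.mk_eq_zero,
      Submodule.mem_smul_pointwise_iff_exists]
    exact ⟨c', Submodule.mem_top, he⟩
  rw [Submodule.Quotient.mk_eq_zero, Submodule.mem_smul_pointwise_iff_exists] at h0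
  obtain ⟨d, -, hd⟩ := h0
  exact ⟨d, hd.symm⟩

/-- The map on quotients induced by a flat map is flat. -/
theorem flat_quotientMap {A B : Type u} [CommRing A] [CommRing B] [Algebra A B] [Module.Flat A B]
    (J : Ideal A) : (Ideal.quotientMap (J.map (algebraMap A B)) (algebraMap A B) Ideal.le_comap_map).Flat := by
  haveI : Module.Flat (A ⧸ J) (B ⧸ J.map (algebraMap A B)) := by
    let e : TensorProduct A (A ⧸ J) B ≃ₗ[A] B ⧸ J.map (algebraMap A B) :=
      (TensorProduct.comm A _ _).trans
        ((Algebra.TensorProduct.quotIdealMapEquivTensorQuot B J).symm.toLinearEquiv.restrictScalars A)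
    exact Module.Flat.of_linearEquiv
      (LinearEquiv.extendScalarsOfSurjective (S := A ⧸ J) Ideal.Quotient.mk_surjective e).symm
  have h : algebraMap (A ⧸ J) (B ⧸ J.map (algebraMap A B)) = Ideal.quotientMap _ (algebraMap A B) Ideal.le_comap_map :=
    Ideal.Quotient.ringHom_ext rfl
  rw [← h]
  exact RingHom.flat_algebraMap_iff.2 this

/-- Quotients by powers of an ideal with free graded pieces keep depth two. -/
theorem two_le_depth_quot_pow {A : Type u} [CommRing A] [IsLocalRing A] [IsNoetherianRing A] (J : Ideal A)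
    [IsLocalRing (A ⧸ J)] (hd : (2 : ℕ∞) ≤ LocCoh.depth (A ⧸ J) (A ⧸ J))
    (hgr : ∀ n : ℕ, Module.Free (A ⧸ J) (↥(J ^ n) ⧸ (J • (⊤ : Submodule A ↥(J ^ n)))))
    (n : ℕ) [IsLocalRing (A ⧸ J ^ (n + 1))] :
    (2 : ℕ∞) ≤ LocCoh.depth (A ⧸ J ^ (n + 1)) (A ⧸ J ^ (n + 1)) := by
  obtain ⟨x₀, y₀, hx₀, hy₀, hxr, hyr⟩ := exists_regular_pair hd
  obtain ⟨x, rfl⟩ := Ideal.Quotient.mk_surjective x₀
  obtain ⟨y, rfl⟩ := Ideal.Quotient.mk_surjective y₀
  have hJm : J ≤ IsLocalRing.maximalIdeal A := IsLocalRing.le_maximalIdeal (by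
    intro h
    haveI : Subsingleton (A ⧸ J) := Ideal.Quotient.subsingleton_iff.2 h
    exact false_of_nontrivial_of_subsingleton (A ⧸ J))
  -- regularity on the graded pieces
  have hG1 : ∀ k, ∀ e ∈ J ^ k, x * e ∈ J ^ (k + 1) → e ∈ J ^ (k + 1) := by
    intro k e he h
    haveI := hgr k
    let G := ↥(J ^ k) ⧸ (J • (⊤ : Submodule A ↥(J ^ k)))
    have hz : ∀ w : ↥(J ^ k), (Submodule.Quotient.mk w : G) = 0 ↔ w.1 ∈ J ^ (k + 1) := fun w => by
      rw [Submodule.Quotient.mk_eq_zero, Submodule.mem_smul_top_iff, smul_eq_mul, ← pow_succ']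
    let b := Module.Free.chooseBasis (A ⧸ J) G
    have h0 : (Ideal.Quotient.mk J x) • (Submodule.Quotient.mk ⟨e, he⟩ : G) = 0 :=
      (hz ⟨x * e, Ideal.mul_mem_left _ _ he⟩).2 h
    refine (hz ⟨e, he⟩).1 (b.ext_elem fun j => ?_)
    rw [map_zero, Finsupp.zero_apply]
    refine hxr _ ?_
    have := congrArg (fun g => b.repr g j) h0
    simp only [map_smul, map_zero, Finsupp.smul_apply, Finsupp.zero_apply, smul_eq_mul] at this
    exact this
  have hG2 : ∀ k, ∀ e ∈ J ^ k, ∀ g ∈ J ^ k, y * e + x * g ∈ J ^ (k + 1) →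
      ∃ a ∈ J ^ k, e - x * a ∈ J ^ (k + 1) := by
    intro k e he g hg h
    haveI := hgr k
    let G := ↥(J ^ k) ⧸ (J • (⊤ : Submodule A ↥(J ^ k)))
    have hz : ∀ w : ↥(J ^ k), (Submodule.Quotient.mk w : G) = 0 ↔ w.1 ∈ J ^ (k + 1) := fun w => by
      rw [Submodule.Quotient.mk_eq_zero, Submodule.mem_smul_top_iff, smul_eq_mul, ← pow_succ']
    let b := Module.Free.chooseBasis (A ⧸ J) G
    have h0 : (Ideal.Quotient.mk J y) • (Submodule.Quotient.mk ⟨e, he⟩ : G) +
        (Ideal.Quotient.mk J x) • (Submodule.Quotient.mk ⟨g, hg⟩ : G) = 0 :=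
      (hz ⟨y * e + x * g, add_mem (Ideal.mul_mem_left _ _ he) (Ideal.mul_mem_left _ _ hg)⟩).2 h
    have hj : ∀ j, ∃ a : A ⧸ J, b.repr (Submodule.Quotient.mk ⟨e, he⟩) j = Ideal.Quotient.mk J x * a := fun j => by
      refine hyr _ (-(b.repr (Submodule.Quotient.mk ⟨g, hg⟩) j)) ?_
      have h1 := congrArg (fun w => b.repr w j) h0
      simp only [map_add, map_smul, map_zero, Finsupp.add_apply, Finsupp.smul_apply, smul_eq_mul,
        Finsupp.zero_apply] at h1
      linear_combination -h1
    choose a ha using hj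
    classical
    let w₀ : G := ∑ j ∈ (b.repr (Submodule.Quotient.mk ⟨e, he⟩)).support, a j • b j
    have hw : (Submodule.Quotient.mk ⟨e, he⟩ : G) = (Ideal.Quotient.mk J x) • w₀ := by
      conv_lhs => rw [← b.linearCombination_repr (Submodule.Quotient.mk ⟨e, he⟩)]
      rw [Finsupp.linearCombination_apply, Finsupp.sum, Finset.smul_sum]
      exact Finset.sum_congr rfl fun j _ => by rw [smul_smul, ← ha j]
    obtain ⟨⟨w, hwmem⟩, hw'⟩ := Submodule.Quotient.mk_surjective _ w₀
    refine ⟨w, hwmem, (hz (⟨e, he⟩ - x • ⟨w, hwmem⟩)).1 ?_⟩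
    rw [Submodule.Quotient.mk_sub, hw, ← hw', sub_eq_zero]
    rfl
  -- regularity on the quotients
  have hP : ∀ m, (∀ c, x * c ∈ J ^ m → c ∈ J ^ m) ∧
      (∀ c d, y * c + x * d ∈ J ^ m → ∃ a, c - x * a ∈ J ^ m) := by
    intro m
    induction m with
    | zero => simp [Ideal.one_eq_top]
    | succ m ih =>
      have hle : J ^ (m + 1) ≤ J ^ m := Ideal.pow_le_pow_right m.le_succ
      refine ⟨fun c hc => hG1 m c (ih.1 c (hle hc)) hc, fun c d hcd => ?_⟩
      obtain ⟨a, ha⟩ := ih.2 c d (hle hcd)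
      have hg : y * a + d ∈ J ^ m := ih.1 _ (by
        rw [show x * (y * a + d) = (y * c + x * d) - y * (c - x * a) by ring]
        exact sub_mem (hle hcd) (Ideal.mul_mem_left _ _ ha))
      obtain ⟨a', -, ha'⟩ := hG2 m _ ha _ hg (by
        rw [show y * (c - x * a) + x * (y * a + d) = y * c + x * d by ring]
        exact hcd)
      exact ⟨a + a', by rw [show c - x * (a + a') = c - x * a - x * a' by ring]; exact ha'⟩
  let q := Ideal.Quotient.mk (J ^ (n + 1))
  refine GrothLib.RamSam.le_depth_of_regular_seq [q x, q y] 2 rfl ?_ ?_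
  · have hmem : ∀ z : A, Ideal.Quotient.mk J z ∈ IsLocalRing.maximalIdeal (A ⧸ J) →
        q z ∈ IsLocalRing.maximalIdeal (A ⧸ J ^ (n + 1)) := by
      intro z hz
      rw [IsLocalRing.mem_maximalIdeal, mem_nonunits_iff] at hz ⊢
      intro hu
      refine hz ?_
      have := hu.map (Ideal.Quotient.factor (Ideal.pow_le_self n.succ_ne_zero : J ^ (n + 1) ≤ J))
      rwa [Ideal.Quotient.factor_mk] at this
    intro r hr
    rcases List.mem_pair.1 hr with rfl | rfl
    · exact hmem x hx₀
    · exact hmem y hy₀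
  · rw [RingTheory.Sequence.isWeaklyRegular_cons_iff, RingTheory.Sequence.isWeaklyRegular_cons_iff]
    refine ⟨?_, ?_, .nil _ _⟩
    · rw [isSMulRegular_iff_right_eq_zero_of_smul]
      intro c hc
      obtain ⟨c, rfl⟩ := Ideal.Quotient.mk_surjective c
      rw [smul_eq_mul, ← map_mul, Ideal.Quotient.eq_zero_iff_mem] at hc
      exact Ideal.Quotient.eq_zero_iff_mem.2 ((hP _).1 c hc)
    · rw [isSMulRegular_iff_right_eq_zero_of_smul]
      intro c hc
      obtain ⟨c, rfl⟩ := Submodule.Quotient.mk_surjective _ c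
      obtain ⟨c, rfl⟩ := Ideal.Quotient.mk_surjective c
      rw [← Submodule.Quotient.mk_smul, Submodule.Quotient.mk_eq_zero,
        Submodule.mem_smul_pointwise_iff_exists] at hc
      obtain ⟨d, -, hd'⟩ := hc
      obtain ⟨d, rfl⟩ := Ideal.Quotient.mk_surjective d
      obtain ⟨a, ha⟩ := (hP (n + 1)).2 c (-d) (by
        rw [← Ideal.Quotient.eq_zero_iff_mem, map_add, map_mul, map_mul, map_neg]
        change q x * q d = q y * q c at hd'
        linear_combination -hd')
      rw [Submodule.Quotient.mk_eq_zero, Submodule.mem_smul_pointwise_iff_exists]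
      refine ⟨q a, Submodule.mem_top, ?_⟩
      show q x * q a = q c
      rw [← map_mul, eq_comm, Ideal.Quotient.eq]
      exact ha

/-- A closed subscheme of an affine scheme, pulled back to an affine scheme. -/
theorem isPullback_SpecMap_quotient {A B : CommRingCat.{u}} (φ : A ⟶ B) (I : Ideal A) :
    IsPullback (Spec.map (CommRingCat.ofHom (Ideal.Quotient.mk (I.map φ.hom))))
      (Spec.map (CommRingCat.ofHom (Ideal.quotientMap (I.map φ.hom) φ.hom Ideal.le_comap_map)))
      (Spec.map φ) (Spec.map (CommRingCat.ofHom (Ideal.Quotient.mk I))) := by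
  refine isPullback_SpecMap_of_isPushout _ _ _ _ ?_
  refine ⟨⟨by ext a; rfl⟩, ⟨PushoutCocone.IsColimit.mk _
    (fun s => CommRingCat.ofHom (Ideal.Quotient.lift (I.map φ.hom) s.inl.hom ?_)) ?_ ?_ ?_⟩⟩
  · intro b hb
    refine Ideal.map_le_iff_le_comap.mpr (fun a ha => ?_ : I ≤ (RingHom.ker s.inl.hom).comap φ.hom) hb
    show s.inl.hom (φ.hom a) = 0
    rw [← RingHom.comp_apply, ← CommRingCat.hom_comp, s.condition]
    show s.inr.hom (Ideal.Quotient.mk I a) = 0
    rw [Ideal.Quotient.eq_zero_iff_mem.mpr ha, map_zero]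
  · intro s; ext b; rfl
  · intro s
    ext a
    show s.inl.hom (φ.hom a) = s.inr.hom (Ideal.Quotient.mk I a)
    exact RingHom.congr_fun (congrArg CommRingCat.Hom.hom s.condition) a
  · intro s m h₁ h₂
    ext b
    exact RingHom.congr_fun (congrArg CommRingCat.Hom.hom h₁) b

/-- The kernel on sections of the base change along a closed subscheme of an affine scheme. -/
theorem ker_fst_appTop {R : Type u} [CommRing R] {Y : Scheme.{u}} (q : Y ⟶ Spec (CommRingCat.of R)) [IsAffine Y]
    (K : Ideal R) :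
    RingHom.ker (pullback.fst q (Spec.map (CommRingCat.ofHom (Ideal.Quotient.mk K)))).appTop.hom =
      K.map (q.appTop.hom.comp (Scheme.ΓSpecIso (CommRingCat.of R)).inv.hom) := by
  let cl := Spec.map (CommRingCat.ofHom (Ideal.Quotient.mk K))
  let φ : CommRingCat.of R ⟶ Γ(Y, ⊤) := (Scheme.ΓSpecIso (CommRingCat.of R)).inv ≫ q.appTop
  have hq : Y.isoSpec.hom ≫ Spec.map φ = q := by
    rw [Spec.map_comp, ← Category.assoc]
    show (Y.toSpecΓ ≫ Spec.map q.appTop) ≫ _ = q
    rw [← Scheme.toSpecΓ_naturality, Category.assoc, toSpecΓ_SpecMap_ΓSpecIso_inv, Category.comp_id]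
  let I := K.map φ.hom
  let mk' := Spec.map (CommRingCat.ofHom (Ideal.Quotient.mk I))
  let qm := Spec.map (CommRingCat.ofHom (Ideal.quotientMap I φ.hom Ideal.le_comap_map))
  have sq : IsPullback mk' qm (Spec.map φ) cl := isPullback_SpecMap_quotient φ K
  have sq' : IsPullback (mk' ≫ Y.isoSpec.inv) qm q cl :=
    sq.of_iso (Iso.refl _) Y.isoSpec.symm (Iso.refl _) (Iso.refl _) (by simp) (by simp [qm])
      (by rw [Iso.refl_hom, Category.comp_id, ← hq, Iso.symm_hom, Iso.inv_hom_id_assoc]) (by simp)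
  have hfst : sq'.isoPullback.hom ≫ pullback.fst q cl = mk' ≫ Y.isoSpec.inv := sq'.isoPullback_hom_fst
  have h1 : Y.isoSpec.inv.appTop = (Scheme.ΓSpecIso Γ(Y, ⊤)).inv := by
    have h : Y.isoSpec.hom.appTop = (Scheme.ΓSpecIso Γ(Y, ⊤)).hom := Scheme.toSpecΓ_appTop Y
    rw [← cancel_mono Y.isoSpec.hom.appTop, ← Scheme.Hom.comp_appTop, Iso.hom_inv_id, Scheme.Hom.id_appTop,
      h, Iso.inv_hom_id]
  have key : (pullback.fst q cl).appTop ≫ sq'.isoPullback.hom.appTop =
      CommRingCat.ofHom (Ideal.Quotient.mk I) ≫ (Scheme.ΓSpecIso (CommRingCat.of (Γ(Y, ⊤) ⧸ I))).inv := by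
    rw [← Scheme.Hom.comp_appTop, hfst, Scheme.Hom.comp_appTop, h1, Scheme.ΓSpecIso_inv_naturality]
    rfl
  have hinj := (ConcreteCategory.bijective_of_isIso sq'.isoPullback.hom.appTop).1
  have hinj' := (ConcreteCategory.bijective_of_isIso (Scheme.ΓSpecIso (CommRingCat.of (Γ(Y, ⊤) ⧸ I))).inv).1
  ext b
  show (pullback.fst q cl).appTop b = 0 ↔ b ∈ I
  rw [← Ideal.Quotient.eq_zero_iff_mem, ← hinj.eq_iff, map_zero, ← ConcreteCategory.comp_apply, key,
    ConcreteCategory.comp_apply, ← map_zero (Scheme.ΓSpecIso (CommRingCat.of (Γ(Y, ⊤) ⧸ I))).inv.hom]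
  exact hinj'.eq_iff

/-- Bijectivity on sections is stable under flat base change. -/
theorem bijective_app_baseChange {S T S' P : Scheme.{u}} (j : T ⟶ S) [QuasiCompact j] [QuasiSeparated j]
    (f : S' ⟶ S) [Flat f] (hj : ∀ W : S.Opens, Function.Bijective (j.app W))
    (z : P ⟶ T) (j₁ : P ⟶ S') (sq : IsPullback z j₁ j f) (W : S'.Opens) : Function.Bijective (j₁.app W) :=
  FpqcPure21.app_bijective_of_basis j₁ (𝟙 S') (fun x U hx => FpqcPure21.over_affine_basis f x U hx)
    (fun W hW => FpqcPure21.app_bijective_baseChange (IsPullback.of_id_snd (f := f)) sq j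
      (Category.comp_id j) j₁ sq.w.symm (Category.comp_id j₁) hW.2.choose_spec.1
      (hj _) hW.1 hW.2.choose_spec.2) W

variable (A : Type u) [CommRing A] [IsLocalRing A]

/-- The open part of a closed subscheme of a punctured spectrum. -/
theorem app_bijective_snd [IsNoetherianRing A] (K : Ideal A) [IsLocalRing (A ⧸ K)]
    (hd : (2 : ℕ∞) ≤ LocCoh.depth (A ⧸ K) (A ⧸ K)) (W : (Spec (CommRingCat.of (A ⧸ K))).Opens) :
    Function.Bijective ((pullback.snd (FEt.puncturedSpec A).ι
      (Spec.map (CommRingCat.ofHom (Ideal.Quotient.mk K)))).app W) := by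
  let cl := Spec.map (CommRingCat.ofHom (Ideal.Quotient.mk K))
  let j := pullback.snd (FEt.puncturedSpec A).ι cl
  have hrange : j.opensRange = FEt.puncturedSpec (A ⧸ K) := by
    rw [show j.opensRange = cl ⁻¹ᵁ (FEt.puncturedSpec A).ι.opensRange from
      Scheme.Hom.opensRange_pullbackSnd _ _, Scheme.Opens.opensRange_ι]
    haveI : IsLocalHom (Ideal.Quotient.mk K) := IsLocalHom.of_surjective _ Ideal.Quotient.mk_surjective
    refine Opens.ext (Set.ext fun z => not_congr ?_)
    refine ⟨fun h => PrimeSpectrum.ext (Ideal.comap_injective_of_surjective _ Ideal.Quotient.mk_surjective ?_),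
      fun h => h ▸ IsLocalRing.comap_closedPoint _⟩
    exact (congrArg PrimeSpectrum.asIdeal h).trans
      (congrArg PrimeSpectrum.asIdeal (IsLocalRing.comap_closedPoint (Ideal.Quotient.mk K))).symm
  show Function.Bijective (j.app W)
  haveI : IsNoetherianRing (CommRingCat.of (A ⧸ K)) := inferInstanceAs (IsNoetherianRing (A ⧸ K))
  have hU : GrothLib.Depth.DepthTwoOutside j.opensRange :=
    hrange ▸ GrothLib.FEt21.depthTwoOutside_puncturedSpec (A ⧸ K) hd
  have key : ∀ g : pullback (FEt.puncturedSpec A).ι cl ⟶ Spec (CommRingCat.of (A ⧸ K)),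
      g = j.isoOpensRange.hom ≫ j.opensRange.ι → Function.Bijective (g.app W) := by
    rintro _ rfl
    rw [Scheme.Hom.comp_app]
    exact (ConcreteCategory.bijective_of_isIso (j.isoOpensRange.hom.app _)).comp
      (GrothLib.FEt21.app_ι_bijective_of_depthTwo hU W)
  exact key j (Scheme.Hom.isoOpensRange_hom_ι j).symm

/-- A cover of the punctured spectrum whose restriction to `V(J)` extends, extends. -/
theorem exists_extension_of_grFree [IsNoetherianRing A] (J : Ideal A) [IsLocalRing (A ⧸ J)]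
    (hdA : (2 : ℕ∞) ≤ LocCoh.depth A A) (hd : (2 : ℕ∞) ≤ LocCoh.depth (A ⧸ J) (A ⧸ J))
    (hgr : ∀ n : ℕ, Module.Free (A ⧸ J) (↥(J ^ n) ⧸ (J • (⊤ : Submodule A ↥(J ^ n)))))
    (V : FEt.Cat (FEt.puncturedSpec A : Scheme.{u}))
    (Y₀ : FEt.Cat (Spec (CommRingCat.of (A ⧸ J))))
    (e : (FEt.restrict (pullback.snd (FEt.puncturedSpec A).ι
        (Spec.map (CommRingCat.ofHom (Ideal.Quotient.mk J))))).obj Y₀ ≅
      (FEt.restrict (pullback.fst (FEt.puncturedSpec A).ι
        (Spec.map (CommRingCat.ofHom (Ideal.Quotient.mk J))))).obj V) :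
    ∃ Y : FEt.Cat (Spec (CommRingCat.of A)), Nonempty ((FEt.restrict (FEt.puncturedSpec A).ι).obj Y ≅ V) := by
  let A' := AdicCompletion (IsLocalRing.maximalIdeal A) A
  let J' := J.map (algebraMap A A')
  have hJm : J ≤ IsLocalRing.maximalIdeal A := IsLocalRing.le_maximalIdeal (by
    intro h
    haveI : Subsingleton (A ⧸ J) := Ideal.Quotient.subsingleton_iff.2 h
    exact false_of_nontrivial_of_subsingleton (A ⧸ J))
  haveI : IsNoetherianRing A' := GrothLib.AdicExtra.isNoetherianRing_adicCompletion _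
  haveI : IsAdicComplete ((IsLocalRing.maximalIdeal A).map (algebraMap A A')) A' :=
    AdicCompletion.isAdicComplete_self _ (IsNoetherian.noetherian _)
  haveI : IsAdicComplete J' A' :=
    GrothLib.AdicExtra.isAdicComplete_of_le (J := (IsLocalRing.maximalIdeal A).map (algebraMap A A'))
      (Ideal.map_mono hJm) (IsNoetherian.noetherian _)
  haveI : Module.Flat A A' := AdicCompletion.flat_of_isNoetherian _
  let U := FEt.puncturedSpec A
  let S := Spec (CommRingCat.of A)
  let S' := Spec (CommRingCat.of A')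
  let f : S' ⟶ S := Spec.map (CommRingCat.ofHom (algebraMap A A'))
  haveI : Flat f := by
    rw [HasRingHomProperty.Spec_iff (P := @Flat)]
    exact RingHom.flat_algebraMap_iff.2 inferInstance
  haveI : Surjective f := by
    haveI : IsLocalRing A' := inferInstance
    haveI : IsLocalHom (algebraMap A A') := inferInstance
    haveI := Module.FaithfullyFlat.of_flat_of_isLocalHom (A := A) (B := A')
    exact ⟨PrimeSpectrum.comap_surjective_of_faithfullyFlat⟩
  haveI : IsNoetherianRing (CommRingCat.of A) := inferInstanceAs (IsNoetherianRing A)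
  have hjA : ∀ W : S.Opens, Function.Bijective (U.ι.app W) :=
    GrothLib.FEt21.app_ι_bijective_of_depthTwo (GrothLib.FEt21.depthTwoOutside_puncturedSpec A hdA)
  let j' := pullback.snd U.ι f
  let U' := pullback U.ι f
  have hj' : ∀ W : S'.Opens, Function.Bijective (j'.app W) :=
    bijective_app_baseChange U.ι f hjA (pullback.fst U.ι f) j' (IsPullback.of_hasPullback U.ι f)
  haveI : IsNoetherianRing (CommRingCat.of A') := inferInstanceAs (IsNoetherianRing A')
  haveI : CompactSpace U' := QuasiCompact.compactSpace_of_compactSpace j'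
  haveI : U'.IsQuasiAffine := Scheme.IsQuasiAffine.of_isImmersion j'
  -- the tower
  let K : ℕ → Ideal A' := fun n => J' ^ (n + 1)
  let cl' : ∀ n, Spec (CommRingCat.of (A' ⧸ K n)) ⟶ S' := fun n =>
    Spec.map (CommRingCat.ofHom (Ideal.Quotient.mk (K n)))
  let Z : ℕ → Scheme.{u} := fun n => pullback j' (cl' n)
  let t : ∀ n, Z n ⟶ U' := fun n => pullback.fst j' (cl' n)
  let k : ∀ n, Spec (CommRingCat.of (A' ⧸ K n)) ⟶ Spec (CommRingCat.of (A' ⧸ K (n + 1))) := fun n =>
    Spec.map (CommRingCat.ofHom (Ideal.Quotient.factor (Ideal.pow_le_pow_right (Nat.le_succ (n + 1)))))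
  have hk : ∀ n, k n ≫ cl' (n + 1) = cl' n := fun n => by
    show Spec.map _ ≫ Spec.map _ = Spec.map _
    rw [← Spec.map_comp, ← CommRingCat.ofHom_comp, Ideal.Quotient.factor_comp_mk]
  have hKle : ∀ n, K (n + 1) ≤ K n := fun n => Ideal.pow_le_pow_right (Nat.le_succ (n + 1))
  haveI : ∀ n, IsClosedImmersion (k n) := fun n =>
    IsClosedImmersion.spec_of_surjective _ (Ideal.Quotient.factor_surjective (hKle n))
  haveI : ∀ n, Surjective (k n) := fun n => ⟨fun x => by
    have hle : RingHom.ker (Ideal.Quotient.factor (hKle n)) ≤ x.asIdeal := fun y hy => by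
      obtain ⟨y, rfl⟩ := Ideal.Quotient.mk_surjective y
      rw [RingHom.mem_ker, Ideal.Quotient.factor_mk, Ideal.Quotient.eq_zero_iff_mem] at hy
      refine x.2.mem_of_pow_mem 2 ?_
      rw [← map_pow, Ideal.Quotient.eq_zero_iff_mem.2]
      · exact zero_mem _
      have := Ideal.pow_mem_pow hy 2
      rw [← pow_mul] at this
      exact Ideal.pow_le_pow_right (by omega) this
    have hr := range_comap_of_surjective _ _ (Ideal.Quotient.factor_surjective (hKle n))
    exact hr.ge hle⟩
  let i : ∀ n, Z n ⟶ Z (n + 1) := fun n =>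
    pullback.lift (pullback.fst _ _) (pullback.snd _ _ ≫ k n) (by rw [Category.assoc, hk, pullback.condition])
  have hi : ∀ n, i n ≫ t (n + 1) = t n := fun n => pullback.lift_fst _ _ _
  have sqi : ∀ n, IsPullback (i n) (pullback.snd j' (cl' n)) (pullback.snd j' (cl' (n + 1))) (k n) := fun n => by
    refine IsPullback.of_right (h₁₂ := pullback.fst j' (cl' (n + 1))) (v₁₃ := j') (h₂₂ := cl' (n + 1)) ?_
      (pullback.lift_snd _ _ _) (IsPullback.of_hasPullback j' (cl' (n + 1)))
    rw [hk, hi]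
    exact IsPullback.of_hasPullback j' (cl' n)
  haveI : ∀ n, IsClosedImmersion (i n) := fun n => MorphismProperty.of_isPullback (sqi n).flip inferInstance
  haveI : ∀ n, Surjective (i n) := fun n => MorphismProperty.of_isPullback (sqi n).flip inferInstance
  -- sections on the tower
  have hjn : ∀ n (W : (Spec (CommRingCat.of (A' ⧸ K n))).Opens),
      Function.Bijective ((pullback.snd j' (cl' n)).app W) := by
    intro n
    let I := J ^ (n + 1)
    have hI : I ≠ ⊤ := fun h => (IsLocalRing.maximalIdeal.isMaximal A).ne_top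
      (top_le_iff.1 (h ▸ (Ideal.pow_le_self n.succ_ne_zero).trans hJm))
    haveI : Nontrivial (A ⧸ I) := Ideal.Quotient.nontrivial_iff.2 hI
    haveI : IsLocalRing (A ⧸ I) := IsLocalRing.of_surjective' _ Ideal.Quotient.mk_surjective
    have hK : K n = I.map (algebraMap A A') := (Ideal.map_pow _ _ _).symm
    have hle : I ≤ (K n).comap (algebraMap A A') := hK.symm ▸ Ideal.le_comap_map
    let cl := Spec.map (CommRingCat.ofHom (Ideal.Quotient.mk I))
    let fn : Spec (CommRingCat.of (A' ⧸ K n)) ⟶ Spec (CommRingCat.of (A ⧸ I)) :=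
      Spec.map (CommRingCat.ofHom (Ideal.quotientMap (K n) (algebraMap A A') hle))
    haveI : Flat fn := by
      rw [HasRingHomProperty.Spec_iff (P := @Flat)]
      have aux : ∀ (L : Ideal A') (hL : L = I.map (algebraMap A A')) (h : I ≤ L.comap (algebraMap A A')),
          (Ideal.quotientMap L (algebraMap A A') h).Flat := by
        rintro _ rfl h
        exact flat_quotientMap I
      exact aux _ hK hle
    have hfn : fn ≫ cl = cl' n ≫ f := by
      show Spec.map _ ≫ Spec.map _ = Spec.map _ ≫ Spec.map _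
      rw [← Spec.map_comp, ← Spec.map_comp, ← CommRingCat.ofHom_comp, ← CommRingCat.ofHom_comp,
        Ideal.quotientMap_comp_mk]
    let zn : Z n ⟶ pullback U.ι cl :=
      pullback.lift (t n ≫ pullback.fst U.ι f) (pullback.snd j' (cl' n) ≫ fn) (by
        rw [Category.assoc, Category.assoc, pullback.condition, hfn, ← Category.assoc, ← Category.assoc,
          pullback.condition])
    have sq : IsPullback zn (pullback.snd j' (cl' n)) (pullback.snd U.ι cl) fn := by
      refine IsPullback.of_right (h₁₂ := pullback.fst U.ι cl) (v₁₃ := U.ι) (h₂₂ := cl) ?_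
        (pullback.lift_snd _ _ _) (IsPullback.of_hasPullback U.ι cl)
      rw [hfn, show zn ≫ pullback.fst U.ι cl = t n ≫ pullback.fst U.ι f from pullback.lift_fst _ _ _]
      exact (IsPullback.of_hasPullback j' (cl' n)).paste_horiz (IsPullback.of_hasPullback U.ι f)
    exact bijective_app_baseChange (pullback.snd U.ι cl) fn
      (app_bijective_snd A I (two_le_depth_quot_pow J hd hgr n)) zn _ sq
  -- lift the cover
  let g₀ : Spec (CommRingCat.of (A' ⧸ K 0)) ⟶ Spec (CommRingCat.of (A ⧸ J)) :=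
    Spec.map (CommRingCat.ofHom (Ideal.quotientMap (K 0) (algebraMap A A')
      (Ideal.le_comap_map.trans (Ideal.comap_mono (by simp [K, J'])))))
  have hg₀ : g₀ ≫ Spec.map (CommRingCat.ofHom (Ideal.Quotient.mk J)) = cl' 0 ≫ f := by
    show Spec.map _ ≫ Spec.map _ = Spec.map _ ≫ Spec.map _
    rw [← Spec.map_comp, ← Spec.map_comp, ← CommRingCat.ofHom_comp, ← CommRingCat.ofHom_comp,
      Ideal.quotientMap_comp_mk]
  haveI : IsAdicComplete (K 0) A' := by simpa [K] using (inferInstance : IsAdicComplete J' A')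
  haveI : (FEt.restrict (cl' 0)).EssSurj := GrothLib.FEt21.essSurj_of_henselian A' (K 0)
  let Yh : FEt.Cat S' := (FEt.restrict (cl' 0)).objPreimage ((FEt.restrict g₀).obj Y₀)
  let eh := (FEt.restrict (cl' 0)).objObjPreimageIso ((FEt.restrict g₀).obj Y₀)
  let Y : FEt.Cat U' := (FEt.restrict j').obj Yh
  let V' : FEt.Cat U' := (FEt.restrict (pullback.fst U.ι f)).obj V
  let w : Z 0 ⟶ pullback U.ι (Spec.map (CommRingCat.ofHom (Ideal.Quotient.mk J))) :=
    pullback.lift (t 0 ≫ pullback.fst U.ι f) (pullback.snd j' (cl' 0) ≫ g₀) (by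
      rw [Category.assoc, Category.assoc, pullback.condition, hg₀, ← Category.assoc, ← Category.assoc,
        pullback.condition])
  let e₀ : (FEt.restrict (t 0)).obj Y ≅ (FEt.restrict (t 0)).obj V' :=
    (restrictCompIso (t 0) j' (pullback.snd j' (cl' 0) ≫ cl' 0) pullback.condition Yh).symm ≪≫
      restrictCompIso (pullback.snd j' (cl' 0)) (cl' 0) _ rfl Yh ≪≫
      (FEt.restrict (pullback.snd j' (cl' 0))).mapIso eh ≪≫
      (restrictCompIso (pullback.snd j' (cl' 0)) g₀ _ rfl Y₀).symm ≪≫
      restrictCompIso w (pullback.snd U.ι _) _ (pullback.lift_snd _ _ _) Y₀ ≪≫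
      (FEt.restrict w).mapIso e ≪≫
      (restrictCompIso w (pullback.fst U.ι _) _ (pullback.lift_fst _ _ _) V).symm ≪≫
      restrictCompIso (t 0) (pullback.fst U.ι f) _ rfl V
  -- sections of the cover
  let yh : Yh.left ⟶ S' := Yh.hom
  haveI : IsFinite yh := Yh.prop.1
  haveI : Etale yh := Yh.prop.2
  haveI : IsAffine Yh.left := isAffine_of_isAffineHom yh
  let y : pullback yh j' ⟶ U' := pullback.snd yh j'
  have hb : Function.Bijective (pullback.fst yh j').appTop :=
    GrothLib.FEt21.app_bijective_of_isPullback (IsPullback.of_hasPullback yh j') hj' (isAffineOpen_top _)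
  let P : ℕ → Scheme.{u} := fun n => pullback yh (cl' n)
  let w' : ∀ n, pullback y (t n) ⟶ P n := fun n =>
    pullback.lift (pullback.fst y (t n) ≫ pullback.fst yh j') (pullback.snd y (t n) ≫ pullback.snd j' (cl' n))
      (by rw [Category.assoc, Category.assoc, pullback.condition, ← Category.assoc, pullback.condition,
        Category.assoc, pullback.condition])
  have sqw : ∀ n, IsPullback (w' n) (pullback.snd y (t n)) (pullback.snd yh (cl' n))
      (pullback.snd j' (cl' n)) := fun n => by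
    refine IsPullback.of_right (h₁₂ := pullback.fst yh (cl' n)) (v₁₃ := yh) (h₂₂ := cl' n) ?_
      (pullback.lift_snd _ _ _) (IsPullback.of_hasPullback _ _)
    rw [show w' n ≫ pullback.fst _ _ = pullback.fst y (t n) ≫ pullback.fst yh j' from pullback.lift_fst _ _ _,
      ← show t n ≫ j' = pullback.snd j' (cl' n) ≫ cl' n from pullback.condition]
    exact (IsPullback.of_hasPullback y (t n)).paste_horiz (IsPullback.of_hasPullback yh j')
  have hbn : ∀ n, Function.Bijective (w' n).appTop := fun n =>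
    GrothLib.FEt21.app_bijective_of_isPullback (sqw n) (hjn n) (isAffineOpen_top _)
  -- the algebra of the lifted cover
  let φ : A' →+* Γ(Yh.left, ⊤) := yh.appTop.hom.comp (Scheme.ΓSpecIso (CommRingCat.of A')).inv.hom
  have key : ∀ n, ∃ (r : Γ(Yh.left, ⊤) →+* Γ(P n, ⊤)), Function.Surjective r ∧
      RingHom.ker r = (K n).map φ ∧ r = (pullback.fst yh (cl' n)).appTop.hom := by
    intro n
    haveI : IsClosedImmersion (cl' n) := IsClosedImmersion.spec_of_surjective _ Ideal.Quotient.mk_surjective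
    haveI : IsClosedImmersion (pullback.fst yh (cl' n)) :=
      MorphismProperty.pullback_fst _ _ (inferInstance : IsClosedImmersion (cl' n))
    exact ⟨_, (IsClosedImmersion.isAffine_surjective_of_isAffine _).2, ker_fst_appTop yh (K n), rfl⟩
  letI : Algebra A' Γ(Yh.left, ⊤) := φ.toAlgebra
  haveI : Module.Finite A' Γ(Yh.left, ⊤) := by
    have h := yh.finite_appTop
    exact RingHom.Finite.comp h (RingHom.Finite.of_surjective _
      (ConcreteCategory.bijective_of_isIso (Scheme.ΓSpecIso (CommRingCat.of A')).inv).2)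
  haveI : IsAdicComplete J' Γ(Yh.left, ⊤) := GrothLib.AdicLim.isAdicComplete_of_finite J' _
  have hKr : ∀ n (b : Γ(Yh.left, ⊤)), (pullback.fst yh (cl' n)).appTop b = 0 ↔
      b ∈ (J' ^ (n + 1) • ⊤ : Submodule A' Γ(Yh.left, ⊤)) := fun n b => by
    obtain ⟨r, -, hker, rfl⟩ := key n
    rw [Ideal.smul_top_eq_map]
    exact (SetLike.ext_iff.1 hker b)
  have hfac : ∀ n, pullback.fst y (t n) ≫ pullback.fst yh j' = w' n ≫ pullback.fst yh (cl' n) :=
    fun n => (pullback.lift_fst _ _ _).symm
  have hzero : ∀ b : Γ(Yh.left, ⊤), (∀ n, (pullback.fst y (t n) ≫ pullback.fst yh j').appTop b = 0) → b = 0 := by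
    intro b hb'
    refine IsHausdorff.haus (inferInstance : IsHausdorff J' Γ(Yh.left, ⊤)) b fun n => ?_
    rw [SModEq.zero]
    refine Submodule.smul_mono_left (Ideal.pow_le_pow_right n.le_succ) ((hKr n b).1 ((hbn n).1 ?_))
    rw [map_zero]
    have := hb' n
    rwa [hfac, Scheme.Hom.comp_appTop] at this
  have hYu : ∀ b : Γ(pullback yh j', ⊤), (∀ n, (pullback.fst y (t n)).appTop b = 0) → b = 0 := by
    intro b hb'
    obtain ⟨b, rfl⟩ := hb.2 b
    rw [hzero b fun n => (by rw [Scheme.Hom.comp_appTop]; exact hb' n), map_zero]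
  have hUu : ∀ e : Γ(U', ⊤), (∀ n, (t n).appTop e = 0) → e = 0 := by
    intro e he
    obtain ⟨a, rfl⟩ := (hj' ⊤).2 e
    obtain ⟨a, rfl⟩ := (ConcreteCategory.bijective_of_isIso (Scheme.ΓSpecIso (CommRingCat.of A')).inv).2 a
    rw [show a = 0 from ?_, map_zero, map_zero]
    refine IsHausdorff.haus (inferInstance : IsHausdorff J' A') a fun n => ?_
    rw [SModEq.zero, smul_eq_mul, Ideal.mul_top]
    refine Ideal.pow_le_pow_right n.le_succ ?_
    have h1 : (cl' n).appTop ((Scheme.ΓSpecIso (CommRingCat.of A')).inv a) = 0 := (hjn n ⊤).1 (by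
      rw [map_zero]
      have h3 : (t n ≫ j').appTop ((Scheme.ΓSpecIso (CommRingCat.of A')).inv a) = 0 := by
        rw [Scheme.Hom.comp_appTop]
        exact he n
      rw [show t n ≫ j' = pullback.snd j' (cl' n) ≫ cl' n from pullback.condition, Scheme.Hom.comp_appTop] at h3
      exact h3)
    rw [← ConcreteCategory.comp_apply, ← Scheme.ΓSpecIso_inv_naturality, ConcreteCategory.comp_apply] at h1
    have h2 := (ConcreteCategory.bijective_of_isIso (Scheme.ΓSpecIso _).inv).1 (h1.trans (map_zero _).symm)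
    exact Ideal.Quotient.eq_zero_iff_mem.1 h2
  have hYe : ∀ g : ∀ n, Γ(pullback y (t n), ⊤), (∀ n, (step t i hi y n).appTop (g (n + 1)) = g n) →
      ∃ b, ∀ n, (pullback.fst y (t n)).appTop b = g n := by
    intro g hg
    have hl : ∀ n, ∃ b : Γ(Yh.left, ⊤), (pullback.fst y (t n) ≫ pullback.fst yh j').appTop b = g n := fun n => by
      obtain ⟨r, hr, -, rfl⟩ := key n
      obtain ⟨c, hc⟩ := (hbn n).2 (g n)
      obtain ⟨b, rfl⟩ := hr c
      exact ⟨b, by rw [hfac, Scheme.Hom.comp_appTop]; exact hc⟩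
    choose b hb₁ using hl
    have hstep : ∀ n, b (n + 1) - b n ∈ (J' ^ (n + 1) • ⊤ : Submodule A' Γ(Yh.left, ⊤)) := fun n => by
      refine (hKr n _).1 ((hbn n).1 ?_)
      rw [map_zero, ← ConcreteCategory.comp_apply, ← Scheme.Hom.comp_appTop, ← hfac, map_sub, hb₁ n, sub_eq_zero,
        ← hg n, ← hb₁ (n + 1), ← ConcreteCategory.comp_apply, ← Scheme.Hom.comp_appTop, ← Category.assoc,
        show step t i hi y n ≫ pullback.fst y (t (n + 1)) = pullback.fst y (t n) from pullback.lift_fst _ _ _]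
    obtain ⟨L, hL⟩ := IsPrecomplete.prec (inferInstance : IsPrecomplete J' Γ(Yh.left, ⊤))
      (f := fun n => b n) (fun {m n} hmn => by
        induction n, hmn using Nat.le_induction with
        | base => exact SModEq.refl _
        | succ n hmn ih =>
          refine ih.trans (SModEq.sub_mem.2 ?_)
          rw [← neg_sub]
          exact neg_mem (Submodule.smul_mono_left (Ideal.pow_le_pow_right (by omega)) (hstep n)))
    refine ⟨(pullback.fst yh j').appTop L, fun n => ?_⟩
    rw [← hb₁ n, ← ConcreteCategory.comp_apply, ← Scheme.Hom.comp_appTop, hfac, Scheme.Hom.comp_appTop,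
      ConcreteCategory.comp_apply, ConcreteCategory.comp_apply]
    congr 1
    rw [← sub_eq_zero, ← map_sub, hKr]
    have h1 := SModEq.sub_mem.1 (hL (n + 1))
    have h2 := hstep n
    rw [show L - b n = (b (n + 1) - b n) - (b (n + 1) - L) by abel]
    exact sub_mem h2 h1
  obtain ⟨θ⟩ := nonempty_iso t i hi Y V' hYe hYu hUu e₀
  exact FpqcPure21.exists_extension_of_flat_descent U.ι f hjA V Yh θ

end Groth.Agent.PurityLef21

namespace Groth.Agent.PurityLef21

/-- Purity in the form of an open immersion onto the punctured spectrum. -/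
theorem exists_extension_of_purityHolds {R : Type u} [CommRing R] [IsLocalRing R] {T : Scheme.{u}}
    (j : T ⟶ Spec (CommRingCat.of R)) [IsOpenImmersion j] (hj : j.opensRange = FEt.puncturedSpec R)
    (h : FEt.PurityHolds R) (W : FEt.Cat T) :
    ∃ Y : FEt.Cat (Spec (CommRingCat.of R)), Nonempty ((FEt.restrict j).obj Y ≅ W) := by
  let U := FEt.puncturedSpec R
  let e : T ≅ (U : Scheme.{u}) := j.isoOpensRange ≪≫ (Spec (CommRingCat.of R)).isoOfEq hj
  have he : e.hom ≫ U.ι = j := by simp [e, U]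
  haveI : (FEt.restrict U.ι).EssSurj := h
  let W' := (FEt.restrict e.inv).obj W
  let Y := (FEt.restrict U.ι).objPreimage W'
  refine ⟨Y, ⟨GrothLib.FEt21.restrictCompIso e.hom U.ι j he Y ≪≫
    (FEt.restrict e.hom).mapIso ((FEt.restrict U.ι).objObjPreimageIso W') ≪≫
    (GrothLib.FEt21.restrictCompIso e.hom e.inv (𝟙 T) e.hom_inv_id W).symm ≪≫ MorphismProperty.Over.isoMk
      (A := (FEt.restrict (𝟙 T)).obj W) (B := W)
      (haveI : IsIso (pullback.fst W.hom (𝟙 T)) := (IsPullback.of_hasPullback W.hom (𝟙 T)).isIso_fst_of_isIso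
       asIso (pullback.fst W.hom (𝟙 T)))
      (pullback.condition.trans (Category.comp_id _))⟩⟩

/-- Purity descends from a quotient along an ideal with free graded pieces. -/
theorem purityHolds_of_grFree (A : Type u) [CommRing A] [IsLocalRing A] [IsNoetherianRing A] (J : Ideal A)
    [IsLocalRing (A ⧸ J)] (hdA : (2 : ℕ∞) ≤ LocCoh.depth A A) (hd : (2 : ℕ∞) ≤ LocCoh.depth (A ⧸ J) (A ⧸ J))
    (hgr : ∀ n : ℕ, Module.Free (A ⧸ J) (↥(J ^ n) ⧸ (J • (⊤ : Submodule A ↥(J ^ n)))))
    (h0 : FEt.PurityHolds (A ⧸ J)) : FEt.PurityHolds A := by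
  refine ⟨fun V => ?_⟩
  let cl := Spec.map (CommRingCat.ofHom (Ideal.Quotient.mk J))
  haveI : IsClosedImmersion cl := IsClosedImmersion.spec_of_surjective _ Ideal.Quotient.mk_surjective
  let j := Limits.pullback.snd (FEt.puncturedSpec A).ι cl
  have hrange : j.opensRange = FEt.puncturedSpec (A ⧸ J) := by
    rw [show j.opensRange = cl ⁻¹ᵁ (FEt.puncturedSpec A).ι.opensRange from
      Scheme.Hom.opensRange_pullbackSnd _ _, Scheme.Opens.opensRange_ι]
    haveI : IsLocalHom (Ideal.Quotient.mk J) := IsLocalHom.of_surjective _ Ideal.Quotient.mk_surjective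
    refine TopologicalSpace.Opens.ext (Set.ext fun z => not_congr ?_)
    refine ⟨fun h => PrimeSpectrum.ext (Ideal.comap_injective_of_surjective _ Ideal.Quotient.mk_surjective ?_),
      fun h => h ▸ IsLocalRing.comap_closedPoint _⟩
    exact (congrArg PrimeSpectrum.asIdeal h).trans
      (congrArg PrimeSpectrum.asIdeal (IsLocalRing.comap_closedPoint (Ideal.Quotient.mk J))).symm
  obtain ⟨Y₀, ⟨e⟩⟩ := exists_extension_of_purityHolds j hrange h0
    ((FEt.restrict (Limits.pullback.fst (FEt.puncturedSpec A).ι cl)).obj V)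
  obtain ⟨Y, hY⟩ := exists_extension_of_grFree A J hdA
    hd hgr V Y₀ e
  exact ⟨Y, hY⟩

end Groth.Agent.PurityLef21
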