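import Groth.Agent.GlueCompl21.Scheme
import Groth.Agent.Lib.AdicLim.Finite
import Groth.Agent.Lib.Depth.Basic
import Groth.Agent.PurityLef21.GrFree
import Mathlib.RingTheory.PowerSeries.Ideal
import Mathlib.RingTheory.MvPowerSeries.Equiv

/-!
# Sections along a complete flat base change and facts on formal power series
-/

set_option autoImplicit false
set_option backward.isDefEq.respectTransparency false
set_option linter.style.haveILetI false

universe u

open CategoryTheory CategoryTheory.Limits AlgebraicGeometry TopologicalSpace Opposite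
open scoped TensorProduct

noncomputable section

namespace Groth.Agent.PurityLef21

open GlueCompl21 (structHom)

/-- The pushout along a quotient map is a quotient. -/
theorem surjective_and_ker_of_isPushout {B C Γn : Type u} [CommRing B] [CommRing C] [CommRing Γn]
    (φ : B →+* C) (K : Ideal B) (r : C →+* Γn) (ψ : B ⧸ K →+* Γn)
    (h : IsPushout (CommRingCat.ofHom φ) (CommRingCat.ofHom (Ideal.Quotient.mk K)) (CommRingCat.ofHom r)
      (CommRingCat.ofHom ψ)) :
    Function.Surjective r ∧ RingHom.ker r = K.map φ := by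
  let q := Ideal.Quotient.mk (K.map φ)
  let ψ' : B ⧸ K →+* C ⧸ K.map φ := Ideal.quotientMap (K.map φ) φ Ideal.le_comap_map
  have w : CommRingCat.ofHom φ ≫ CommRingCat.ofHom q =
      CommRingCat.ofHom (Ideal.Quotient.mk K) ≫ CommRingCat.ofHom ψ' := by
    ext b; rfl
  let d := h.desc (CommRingCat.ofHom q) (CommRingCat.ofHom ψ') w
  have hrq : ∀ c, d (r c) = q c := fun c => ConcreteCategory.congr_hom (h.inl_desc _ _ w) c
  have hdψ : ∀ c, d (ψ c) = ψ' c := fun c => ConcreteCategory.congr_hom (h.inr_desc _ _ w) c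
  have hle : K.map φ ≤ RingHom.ker r := Ideal.map_le_iff_le_comap.2 fun b hb => by
    show r (φ b) = 0
    rw [show r (φ b) = ψ (Ideal.Quotient.mk K b) from ConcreteCategory.congr_hom h.w b,
      Ideal.Quotient.eq_zero_iff_mem.2 hb, map_zero]
  let k : C ⧸ K.map φ →+* Γn := Ideal.Quotient.lift _ r fun c hc => hle hc
  have hkd : d ≫ CommRingCat.ofHom k = 𝟙 (CommRingCat.of Γn) := by
    apply h.hom_ext
    · ext c
      show k (d (r c)) = r c
      rw [hrq]
      rfl
    · ext b
      show k (d (ψ (Ideal.Quotient.mk K b))) = ψ (Ideal.Quotient.mk K b)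
      rw [hdψ]
      exact ConcreteCategory.congr_hom h.w b
  refine ⟨fun x => ?_, le_antisymm (fun c hc => ?_) hle⟩
  · obtain ⟨c, hc⟩ := Ideal.Quotient.mk_surjective (d x)
    refine ⟨c, ?_⟩
    have h1 : k (d x) = x := ConcreteCategory.congr_hom hkd x
    rw [← hc] at h1
    exact h1
  · rw [← Ideal.Quotient.eq_zero_iff_mem]
    show q c = 0
    rw [← hrq, RingHom.mem_ker.1 hc]
    exact map_zero d.hom

/-- Sections after a flat base change to an adically complete ring are compatible families of sections. -/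
theorem sections_complete {A B : Type u} [CommRing A] [CommRing B] [Algebra A B] [IsNoetherianRing B]
    [Module.Flat A B] (J : Ideal B) [IsAdicComplete J B] (hflat : ∀ n : ℕ, Module.Flat A (B ⧸ J ^ (n + 1)))
    {P P' : Scheme.{u}} (p : P ⟶ Spec (CommRingCat.of A)) [QuasiCompact p] [QuasiSeparated p]
    (hfin : (structHom p).Finite) (z : P' ⟶ P) (p' : P' ⟶ Spec (CommRingCat.of B))
    (sq : IsPullback z p' p (Spec.map (CommRingCat.ofHom (algebraMap A B))))
    (Pn : ℕ → Scheme.{u}) (q : ∀ n, Pn n ⟶ P') (pn : ∀ n, Pn n ⟶ Spec (CommRingCat.of (B ⧸ J ^ (n + 1))))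
    (sqn : ∀ n, IsPullback (q n) (pn n) p' (Spec.map (CommRingCat.ofHom (Ideal.Quotient.mk (J ^ (n + 1))))))
    (st : ∀ n, Pn n ⟶ Pn (n + 1)) (hst : ∀ n, st n ≫ q (n + 1) = q n) :
    (∀ g : ∀ n, Γ(Pn n, ⊤), (∀ n, (st n).appTop (g (n + 1)) = g n) → ∃ b, ∀ n, (q n).appTop b = g n) ∧
    (∀ b, (∀ n, (q n).appTop b = 0) → b = 0) := by
  have po := GlueCompl21.isPushout_sections p z p' sq
  have hker : ∀ n, Function.Surjective (q n).appTop ∧
      RingHom.ker (q n).appTop.hom = (J ^ (n + 1)).map (structHom p') := by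
    intro n
    haveI := hflat n
    have sq' : IsPullback (q n ≫ z) (pn n) p
        (Spec.map (CommRingCat.ofHom (algebraMap A (B ⧸ J ^ (n + 1))))) := by
      have h := (sqn n).paste_horiz sq
      rwa [← Spec.map_comp, ← CommRingCat.ofHom_comp] at h
    have pon := GlueCompl21.isPushout_sections p (q n ≫ z) (pn n) sq'
    rw [Scheme.Hom.comp_appTop, show CommRingCat.ofHom (algebraMap A (B ⧸ J ^ (n + 1))) =
      CommRingCat.ofHom (algebraMap A B) ≫ CommRingCat.ofHom (Ideal.Quotient.mk (J ^ (n + 1))) from rfl] at pon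
    have h' : IsPushout (CommRingCat.ofHom (structHom p')) (CommRingCat.ofHom (Ideal.Quotient.mk (J ^ (n + 1))))
        (q n).appTop (CommRingCat.ofHom (structHom (pn n))) := by
      refine IsPushout.of_top pon ?_ po
      show (Scheme.ΓSpecIso _).inv ≫ p'.appTop ≫ (q n).appTop = _ ≫ (Scheme.ΓSpecIso _).inv ≫ (pn n).appTop
      rw [Scheme.ΓSpecIso_inv_naturality_assoc, ← Scheme.Hom.comp_appTop, ← Scheme.Hom.comp_appTop,
        (sqn n).w]
    exact surjective_and_ker_of_isPushout (structHom p') _ (q n).appTop.hom (structHom (pn n)) h'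
  letI : Algebra B Γ(P', ⊤) := (structHom p').toAlgebra
  letI : Algebra A Γ(P, ⊤) := (structHom p).toAlgebra
  haveI : Module.Finite A Γ(P, ⊤) := hfin
  haveI : Module.Finite B Γ(P', ⊤) := by
    let ψ := (CommRingCat.isPushout_tensorProduct A B Γ(P, ⊤)).flip.isoIsPushout _ _ po
    let l : B ⊗[A] Γ(P, ⊤) →ₐ[B] Γ(P', ⊤) :=
      { ψ.hom.hom with
        commutes' := fun x => ConcreteCategory.congr_hom
          ((CommRingCat.isPushout_tensorProduct A B Γ(P, ⊤)).flip.inr_isoIsPushout_hom _ _ po) x }
    exact Module.Finite.of_surjective l.toLinearMap (ConcreteCategory.bijective_of_isIso ψ.hom).2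
  haveI : IsAdicComplete J Γ(P', ⊤) := GrothLib.AdicLim.isAdicComplete_of_finite J _
  have hKr : ∀ n (b : Γ(P', ⊤)), (q n).appTop b = 0 ↔ b ∈ (J ^ (n + 1) • ⊤ : Submodule B Γ(P', ⊤)) := fun n b => by
    rw [Ideal.smul_top_eq_map]
    exact SetLike.ext_iff.1 (hker n).2 b
  refine ⟨fun g hg => ?_, fun b hb => ?_⟩
  · choose b hb using fun n => (hker n).1 (g n)
    have hstep : ∀ n, b (n + 1) - b n ∈ (J ^ (n + 1) • ⊤ : Submodule B Γ(P', ⊤)) := fun n => by
      refine (hKr n _).1 ?_
      rw [map_sub, sub_eq_zero, hb n, ← hg n, ← hb (n + 1), ← ConcreteCategory.comp_apply,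
        ← Scheme.Hom.comp_appTop, hst]
    obtain ⟨L, hL⟩ := IsPrecomplete.prec (inferInstance : IsPrecomplete J Γ(P', ⊤))
      (f := fun n => b n) (fun {m n} hmn => by
        induction n, hmn using Nat.le_induction with
        | base => exact SModEq.refl _
        | succ n hmn ih =>
          refine ih.trans (SModEq.sub_mem.2 ?_)
          rw [← neg_sub]
          exact neg_mem (Submodule.smul_mono_left (Ideal.pow_le_pow_right (by omega)) (hstep n)))
    refine ⟨L, fun n => ?_⟩
    rw [← hb n, ← sub_eq_zero, ← map_sub, hKr]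
    have h1 := SModEq.sub_mem.1 (hL (n + 1))
    have h2 := hstep n
    rw [show L - b n = (b (n + 1) - b n) - (b (n + 1) - L) by abel]
    exact sub_mem h2 h1
  · refine IsHausdorff.haus (inferInstance : IsHausdorff J Γ(P', ⊤)) b fun n => ?_
    rw [SModEq.zero]
    exact Submodule.smul_mono_left (Ideal.pow_le_pow_right n.le_succ) ((hKr n b).1 (hb n))

section PowerSeries

variable (A : Type u) [CommRing A]

/-- The truncations of formal power series are free. -/
theorem flat_quotient_X_pow (n : ℕ) :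
    Module.Flat A (PowerSeries A ⧸ Ideal.span {(PowerSeries.X : PowerSeries A)} ^ n) := by
  let I := Ideal.span {(PowerSeries.X : PowerSeries A)} ^ n
  have hI : ∀ f, f ∈ I ↔ ∀ m < n, PowerSeries.coeff m f = 0 := fun f => by
    rw [show I = _ from Ideal.span_singleton_pow _ n, Ideal.mem_span_singleton, PowerSeries.X_pow_dvd_iff]
  let l : PowerSeries A →ₗ[A] (Fin n → A) := LinearMap.pi fun i => PowerSeries.coeff i.1
  have hker : LinearMap.ker l = I.restrictScalars A := by
    ext f
    rw [LinearMap.mem_ker, Submodule.restrictScalars_mem, hI, funext_iff]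
    exact ⟨fun h m hm => h ⟨m, hm⟩, fun h i => h i.1 i.2⟩
  have hsurj : Function.Surjective l := fun v =>
    ⟨PowerSeries.mk fun m => if h : m < n then v ⟨m, h⟩ else 0, funext fun i => by simp [l]⟩
  let e : (PowerSeries A ⧸ I) ≃ₗ[A] (Fin n → A) :=
    (Submodule.Quotient.restrictScalarsEquiv A I).symm ≪≫ₗ (Submodule.quotEquivOfEq _ _ hker.symm) ≪≫ₗ
      l.quotKerEquivOfSurjective hsurj
  exact Module.Flat.of_linearEquiv e

variable [IsNoetherianRing A]

/-- Formal power series are flat. -/
theorem flat_powerSeries' : Module.Flat A (PowerSeries A) := by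
  haveI : Module.Flat (MvPolynomial Unit A) (MvPowerSeries Unit A) :=
    Module.Flat.of_linearEquiv (MvPowerSeries.toAdicCompletionAlgEquiv Unit A).toLinearEquiv
  exact Module.Flat.trans A (MvPolynomial Unit A) (MvPowerSeries Unit A)

variable [IsLocalRing A]

/-- Depth two passes to formal power series. -/
theorem two_le_depth_mvPowerSeries (σ : Type) [Finite σ] (h : (2 : ℕ∞) ≤ LocCoh.depth A A) :
    (2 : ℕ∞) ≤ LocCoh.depth (MvPowerSeries σ A) (MvPowerSeries σ A) := by
  obtain ⟨x, y, hxm, hym, hx, hxy⟩ := exists_regular_pair h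
  let C := MvPowerSeries.C (σ := σ) (R := A)
  have hm : ∀ z ∈ IsLocalRing.maximalIdeal A, C z ∈ IsLocalRing.maximalIdeal (MvPowerSeries σ A) :=
    fun z hz hu => hz (by simpa [C] using MvPowerSeries.isUnit_iff_constantCoeff.1 hu)
  have hne : IsLocalRing.maximalIdeal (MvPowerSeries σ A) • (⊤ : Submodule (MvPowerSeries σ A) (MvPowerSeries σ A)) ≠ ⊤ := by
    rw [smul_eq_mul, Ideal.mul_top]
    exact (IsLocalRing.maximalIdeal.isMaximal _).ne_top
  refine (GrothLib.Depth.le_idealDepth_iff_exists _ hne 2).2 ⟨[C x, C y], rfl, ?_, ?_⟩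
  · intro r hr
    rcases List.mem_cons.1 hr with rfl | hr
    · exact hm x hxm
    · rw [List.mem_singleton.1 hr]; exact hm y hym
  · refine RingTheory.Sequence.IsWeaklyRegular.cons (fun a b hab => ?_)
      (RingTheory.Sequence.IsWeaklyRegular.cons (fun a b hab => ?_) (RingTheory.Sequence.IsWeaklyRegular.nil _ _))
    · refine sub_eq_zero.1 (MvPowerSeries.ext fun i => hx _ ?_)
      have hab' : C x * a = C x * b := hab
      rw [← MvPowerSeries.coeff_C_mul, mul_sub, hab', sub_self, map_zero]
    · obtain ⟨a, rfl⟩ := Submodule.Quotient.mk_surjective _ a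
      obtain ⟨b, rfl⟩ := Submodule.Quotient.mk_surjective _ b
      have hab' : (Submodule.Quotient.mk (C y • a) : QuotSMulTop (C x) (MvPowerSeries σ A)) =
          Submodule.Quotient.mk (C y • b) := hab
      rw [Submodule.Quotient.eq, Submodule.mem_smul_pointwise_iff_exists] at hab'
      obtain ⟨c', -, hc'⟩ := hab'
      have hd : ∀ i, ∃ d, MvPowerSeries.coeff i (a - b) = x * d := fun i =>
        hxy _ (MvPowerSeries.coeff i c') (by
          rw [← MvPowerSeries.coeff_C_mul, ← smul_eq_mul (C x) c', hc', smul_eq_mul, smul_eq_mul, ← mul_sub,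
            MvPowerSeries.coeff_C_mul])
      choose d hd using hd
      rw [Submodule.Quotient.eq, Submodule.mem_smul_pointwise_iff_exists]
      exact ⟨(fun i => d i : MvPowerSeries σ A), Submodule.mem_top, MvPowerSeries.ext fun i => by
        rw [smul_eq_mul, MvPowerSeries.coeff_C_mul, hd]
        rfl⟩

end PowerSeries

end Groth.Agent.PurityLef21
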