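import Groth.Agent.Lib.FEt21.Thick
import Groth.Agent.Lib.FEt21.AppBijective
import Groth.Agent.Lib.FEt21.RegularExtend
import Mathlib.AlgebraicGeometry.QuasiAffine
import Mathlib.AlgebraicGeometry.Morphisms.FlatRank

/-!
# Lefschetz extension of isomorphisms of finite étale covers

Let `Z n → U` be a tower of thickenings in a quasi-affine scheme. If the sections of a cover `Y` are
the compatible families of sections on the tower, an isomorphism `Y ≅ V` on `Z 0` extends to `U`.
-/

set_option autoImplicit false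
set_option backward.isDefEq.respectTransparency false
set_option linter.style.haveILetI false

universe u

open CategoryTheory CategoryTheory.Limits AlgebraicGeometry TopologicalSpace Opposite

noncomputable section

namespace Groth.Agent.PurityLef21

/-- Morphisms into a finite étale cover lift uniquely along thickenings. -/
theorem existsUnique_lift {P P' U V : Scheme.{u}} (i : P ⟶ P') [IsClosedImmersion i] [Surjective i]
    (v : V ⟶ U) [IsFinite v] [Etale v] (y : P' ⟶ U) (s : P ⟶ V) (w : s ≫ v = i ≫ y) :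
    ∃! s' : P' ⟶ V, s' ≫ v = y ∧ i ≫ s' = s := by
  obtain ⟨_, _⟩ := GrothLib.FEt21.fullyFaithful_of_clopen i (fun A => GrothLib.FEt21.clopenInj_of_surjective i A)
    (fun A => GrothLib.FEt21.clopenSurj_of_universallyInjective i A)
  let W : FEt.Cat P' :=
    MorphismProperty.Over.mk ⊤ (pullback.snd v y) (GrothLib.FEt21.prop_of _)
  let I : FEt.Cat P' := MorphismProperty.Over.mk ⊤ (𝟙 P') (GrothLib.FEt21.prop_of _)
  let F := FEt.restrict i
  have hI : pullback.fst (𝟙 P') i = pullback.snd (𝟙 P') i ≫ i := by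
    rw [← pullback.condition, Category.comp_id]
  let a : (F.obj I).left ⟶ (F.obj W).left :=
    pullback.lift (pullback.lift (pullback.snd (𝟙 P') i ≫ s) (pullback.fst (𝟙 P') i)
      (by rw [Category.assoc, w, hI, Category.assoc])) (pullback.snd (𝟙 P') i)
      (by show pullback.lift _ _ _ ≫ pullback.snd v y = _
          rw [pullback.lift_snd, hI])
  let φ₀ : F.obj I ⟶ F.obj W := MorphismProperty.Over.homMk a (pullback.lift_snd _ _ _)
  let φ := F.preimage φ₀
  have hφw : φ.left ≫ pullback.snd v y = 𝟙 P' := MorphismProperty.Over.w φ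
  have hmap : ∀ ψ : I ⟶ W, (F.map ψ).left ≫ pullback.fst W.hom i = pullback.fst (𝟙 P') i ≫ ψ.left :=
    fun ψ => pullback.lift_fst _ _ _
  have hsnd : IsIso (pullback.snd (𝟙 P') i) := (IsPullback.of_hasPullback _ _).isIso_snd_of_isIso
  refine ⟨φ.left ≫ pullback.fst v y, ⟨?_, ?_⟩, ?_⟩
  · rw [Category.assoc, pullback.condition, reassoc_of% hφw]
    exact Category.id_comp y
  · have h := hmap φ
    rw [show F.map φ = φ₀ from F.map_preimage φ₀] at h
    have h1 : a ≫ pullback.fst W.hom i = pullback.snd (𝟙 P') i ≫ i ≫ φ.left := by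
      rw [← Category.assoc (pullback.snd (𝟙 P') i), ← hI]
      exact h
    rw [← cancel_epi (pullback.snd (𝟙 P') i), ← Category.assoc, ← Category.assoc, Category.assoc _ i, ← h1]
    erw [pullback.lift_fst]
    rw [pullback.lift_fst]
  · rintro s' ⟨hs'y, hs's⟩
    let ψ : I ⟶ W := MorphismProperty.Over.homMk (pullback.lift s' (𝟙 P') (hs'y.trans (Category.id_comp y).symm))
      (pullback.lift_snd _ _ _)
    have hψ : F.map ψ = φ₀ := by
      ext1
      apply pullback.hom_ext
      · rw [hmap ψ]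
        show _ = a ≫ pullback.fst W.hom i
        rw [pullback.lift_fst]
        apply pullback.hom_ext
        · erw [Category.assoc, pullback.lift_fst, pullback.lift_fst]
          rw [hI, Category.assoc, hs's]
        · erw [Category.assoc, pullback.lift_snd, pullback.lift_snd]
          exact Category.comp_id _
      · exact (MorphismProperty.Over.w (F.map ψ)).trans (MorphismProperty.Over.w φ₀).symm
    have : φ = ψ := F.map_injective ((F.map_preimage φ₀).trans hψ.symm)
    rw [this]
    exact (pullback.lift_fst _ _ _).symm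

variable {U : Scheme.{u}} {Z : ℕ → Scheme.{u}} (t : ∀ n, Z n ⟶ U) (i : ∀ n, Z n ⟶ Z (n + 1))

/-- A clopen subset missing the tower is empty if sections vanishing on the tower vanish. -/
theorem clopen_eq_empty (hUu : ∀ e : Γ(U, ⊤), (∀ n, (t n).appTop e = 0) → e = 0)
    (W : Set U) (hW : IsClopen W) (hd : ∀ n z, t n z ∉ W) : W = ∅ := by
  obtain ⟨e, he, he1, he2⟩ := GrothLib.FEt21.exists_indicator W hW ⊤
  have he0 : e = 0 := hUu e fun n => by
    have h1 : (Z n).basicOpen ((t n).appTop (1 - e)) = ⊤ := by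
      rw [← Scheme.preimage_basicOpen_top]
      refine Opens.ext (Set.eq_univ_of_forall fun z => ?_)
      exact (he2.ge ⟨hd n z, trivial⟩ : t n z ∈ (U.basicOpen (1 - e) : Set U))
    have h2 := (Z n).toRingedSpace.isUnit_of_isUnit_germ ⊤ ((t n).appTop (1 - e)) fun z hz =>
      ((Z n).mem_basicOpen _ z hz).1 (h1.ge trivial)
    refine h2.mul_left_cancel ?_
    rw [mul_zero, ← map_mul, mul_comm, he, map_zero]
  rw [he0, Scheme.basicOpen_zero] at he1
  simpa using he1.symm

variable [∀ n, IsClosedImmersion (i n)] [∀ n, Surjective (i n)] (hi : ∀ n, i n ≫ t (n + 1) = t n)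

include hi in
theorem range_t (n : ℕ) : Set.range (t n) = Set.range (t 0) := by
  induction n with
  | zero => rfl
  | succ n ih =>
    rw [← ih, ← hi n]
    ext x
    constructor
    · rintro ⟨z, rfl⟩
      obtain ⟨z', rfl⟩ := (i n).surjective z
      exact ⟨z', rfl⟩
    · rintro ⟨z, rfl⟩
      exact ⟨i n z, rfl⟩

/-- The transition maps of the tower pulled back to a scheme over `U`. -/
def step {P : Scheme.{u}} (g : P ⟶ U) (n : ℕ) : pullback g (t n) ⟶ pullback g (t (n + 1)) :=
  pullback.lift (pullback.fst _ _) (pullback.snd _ _ ≫ i n) (by rw [Category.assoc, hi, pullback.condition])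

theorem isPullback_step {P : Scheme.{u}} (g : P ⟶ U) (n : ℕ) :
    IsPullback (step t i hi g n) (pullback.snd g (t n)) (pullback.snd g (t (n + 1))) (i n) := by
  refine IsPullback.of_right (h₁₂ := pullback.fst g (t (n + 1))) (v₁₃ := g) (h₂₂ := t (n + 1)) ?_
    (pullback.lift_snd _ _ _) (IsPullback.of_hasPullback g (t (n + 1)))
  rw [hi, show step t i hi g n ≫ pullback.fst g (t (n + 1)) = pullback.fst g (t n) from pullback.lift_fst _ _ _]
  exact IsPullback.of_hasPullback g (t n)

include hi in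
/-- An isomorphism on the bottom of the tower extends. -/
theorem nonempty_iso [U.IsQuasiAffine] (Y V : FEt.Cat U)
    (hYe : ∀ g : ∀ n, Γ(pullback Y.hom (t n), ⊤), (∀ n, (step t i hi Y.hom n).appTop (g (n + 1)) = g n) →
      ∃ b, ∀ n, (pullback.fst Y.hom (t n)).appTop b = g n)
    (hYu : ∀ b, (∀ n, (pullback.fst Y.hom (t n)).appTop b = 0) → b = 0)
    (hUu : ∀ e : Γ(U, ⊤), (∀ n, (t n).appTop e = 0) → e = 0)
    (e₀ : (FEt.restrict (t 0)).obj Y ≅ (FEt.restrict (t 0)).obj V) : Nonempty (Y ≅ V) := by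
  let v : V.left ⟶ U := V.hom
  let y : Y.left ⟶ U := Y.hom
  haveI : IsFinite v := V.prop.1
  haveI : Etale v := V.prop.2
  haveI : IsFinite y := Y.prop.1
  haveI : Etale y := Y.prop.2
  let p : ∀ n, pullback y (t n) ⟶ Y.left := fun n => pullback.fst y (t n)
  let st := step t i hi y
  have hst : ∀ n, st n ≫ p (n + 1) = p n := fun n => pullback.lift_fst _ _ _
  haveI : ∀ n, IsClosedImmersion (st n) := fun n =>
    MorphismProperty.of_isPullback (isPullback_step t i hi y n).flip inferInstance
  haveI : ∀ n, Surjective (st n) := fun n =>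
    MorphismProperty.of_isPullback (isPullback_step t i hi y n).flip inferInstance
  let L : ∀ n, Type u := fun n => {s : pullback y (t n) ⟶ V.left // s ≫ v = p n ≫ y}
  let a₀ : pullback y (t 0) ⟶ pullback v (t 0) := e₀.hom.left
  have ha₀ : a₀ ≫ pullback.snd v (t 0) = pullback.snd y (t 0) := MorphismProperty.Over.w e₀.hom
  let σ₀ : L 0 := ⟨a₀ ≫ pullback.fst v (t 0), by
    rw [Category.assoc, pullback.condition, reassoc_of% ha₀]
    exact pullback.condition.symm⟩
  have hnext : ∀ n (s : L n), ∃ s' : L (n + 1), st n ≫ s'.1 = s.1 := fun n s => by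
    obtain ⟨s', ⟨h1, h2⟩, -⟩ := existsUnique_lift (st n) v (p (n + 1) ≫ y) s.1
      (by rw [s.2, reassoc_of% (hst n)])
    exact ⟨⟨s', h1⟩, h2⟩
  let σ : ∀ n, L n := fun n => Nat.rec σ₀ (fun n s => (hnext n s).choose) n
  have hσ : ∀ n, st n ≫ (σ (n + 1)).1 = (σ n).1 := fun n => (hnext n (σ n)).choose_spec
  -- the map on sections
  have hρ : ∀ x : Γ(V.left, ⊤), ∃ b : Γ(Y.left, ⊤), ∀ n, (p n).appTop b = (σ n).1.appTop x := fun x =>
    hYe (fun n => (σ n).1.appTop x) fun n => by
      show (st n).appTop ((σ (n + 1)).1.appTop x) = (σ n).1.appTop x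
      rw [← hσ n, Scheme.Hom.comp_appTop]
      rfl
  choose r hr using hρ
  have huniq : ∀ b b' : Γ(Y.left, ⊤), (∀ n, (p n).appTop b = (p n).appTop b') → b = b' := fun b b' h =>
    sub_eq_zero.1 (hYu _ fun n => (map_sub (p n).appTop.hom b b').trans (sub_eq_zero.2 (h n)))
  let ρ : Γ(V.left, ⊤) ⟶ Γ(Y.left, ⊤) := CommRingCat.ofHom
    { toFun := r
      map_one' := huniq _ _ fun n => by rw [hr, map_one, map_one]
      map_mul' := fun a b => huniq _ _ fun n => by rw [hr, map_mul, map_mul, hr, hr]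
      map_zero' := huniq _ _ fun n => by rw [hr, map_zero, map_zero]
      map_add' := fun a b => huniq _ _ fun n => by rw [hr, map_add, map_add, hr, hr] }
  have hρp : ∀ n, ρ ≫ (p n).appTop = (σ n).1.appTop := fun n => by
    ext x; exact hr x n
  have hρy : v.appTop ≫ ρ = y.appTop := by
    ext x
    refine huniq _ _ fun n => ?_
    show (p n).appTop (r (v.appTop x)) = _
    rw [hr]
    show (v.appTop ≫ (σ n).1.appTop) x = (y.appTop ≫ (p n).appTop) x
    rw [← Scheme.Hom.comp_appTop, ← Scheme.Hom.comp_appTop, (σ n).2]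
  -- the morphism
  have sq := Scheme.isPullback_toSpecΓ_toSpecΓ v
  let φ : Y.left ⟶ V.left := sq.lift y (Y.left.toSpecΓ ≫ Spec.map ρ) (by
    rw [Category.assoc, ← Spec.map_comp, hρy]
    exact Scheme.toSpecΓ_naturality y)
  have hφv : φ ≫ v = y := sq.lift_fst _ _ _
  have hφ₀ : p 0 ≫ φ = (σ 0).1 := by
    apply sq.hom_ext
    · rw [Category.assoc, hφv, (σ 0).2]
    · rw [Category.assoc, sq.lift_snd, Scheme.toSpecΓ_naturality_assoc, Scheme.toSpecΓ_naturality,
        ← Spec.map_comp, hρp]
  haveI : IsFinite (φ ≫ v) := hφv.symm ▸ inferInstance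
  haveI : Etale (φ ≫ v) := hφv.symm ▸ inferInstance
  haveI : IsFinite φ := IsFinite.of_comp φ v
  haveI : Etale φ := Etale.of_comp φ v
  -- the rank is one
  have sqp : IsPullback (p 0) a₀ φ (pullback.fst v (t 0)) := by
    refine IsPullback.of_bot (v₂₁ := pullback.snd v (t 0)) (v₂₂ := v) (h₃₁ := t 0) ?_ hφ₀
      (IsPullback.of_hasPullback v (t 0))
    rw [hφv, ha₀]
    exact IsPullback.of_hasPullback y (t 0)
  haveI : IsIso a₀ := (inferInstance : IsIso e₀.hom.left)
  have h1 : ∀ z, φ.finrank (pullback.fst v (t 0) z) = 1 := fun z => by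
    rw [← Scheme.Hom.finrank_of_isPullback (p 0) a₀ φ (pullback.fst v (t 0)) sqp z]
    rw [Scheme.Hom.finrank_eq_one_of_isIso]
    rfl
  let N : Set V.left := {x | φ.finrank x ≠ 1}
  have hN : IsClopen N := by
    have := (Scheme.Hom.isLocallyConstant_finrank φ).isClopen_fiber 1
    exact this.compl
  have hW : v '' N = ∅ := by
    refine clopen_eq_empty t hUu _ ⟨v.isClosedMap _ hN.1, v.isOpenMap _ hN.2⟩ fun n z hz => ?_
    obtain ⟨x, hx, hxz⟩ := hz
    obtain ⟨z₀, hz₀⟩ : t n z ∈ Set.range (t 0) := range_t t i hi n ▸ ⟨z, rfl⟩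
    obtain ⟨q, hq, -⟩ := Scheme.Pullback.exists_preimage_pullback (f := v) (g := t 0) x z₀ (hxz.trans hz₀.symm)
    exact hx (hq ▸ h1 q)
  haveI : IsIso φ := (Scheme.Hom.isIso_iff_finrank_eq φ).2 (funext fun x => by
    by_contra h
    exact hW.le ⟨x, h, rfl⟩)
  exact ⟨MorphismProperty.Over.isoMk (asIso φ) hφv⟩

end Groth.Agent.PurityLef21
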