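import Groth.Agent.Lib.NFlat7.Main
import Groth.Agent.Lib.PunctSec7.Lef
import Groth.Agent.Lib.LefEt7.FullFaith
import Groth.Agent.Lib.LefEt7.QuasiAffine
import Groth.Agent.Lib.AdicFS.PowerSeries
import Groth.Agent.PurityLef21.FPower
import Mathlib
import Groth.Agent.Lib.FEt21.RegularExtend

/-!
# Full faithfulness of restriction along power series variables
-/

set_option autoImplicit false
set_option backward.isDefEq.respectTransparency false
set_option linter.style.haveILetI false

universe u

open CategoryTheory CategoryTheory.Limits AlgebraicGeometry MvPowerSeries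

noncomputable section

namespace Groth.Agent.PurityLef21

open GrothLib.AdicFS (varsIdeal)

variable {A : Type u} [CommRing A] {d : ℕ}

theorem mem_varsIdeal_pow (n : ℕ) (f : MvPowerSeries (Fin d) A) :
    f ∈ varsIdeal A d ^ n ↔ ∀ x : Fin d →₀ ℕ, Finsupp.degree x < n → coeff x f = 0 := by
  constructor
  · intro hf x hx
    have h0 : truncTotalAlgHom (Fin d) A n f = 0 := by
      rw [varsIdeal, ← Ideal.map_pow] at hf
      refine (Ideal.map_le_iff_le_comap (K := RingHom.ker (truncTotalAlgHom (Fin d) A n).toRingHom)).2 ?_ hf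
      intro p hp
      show truncTotalAlgHom (Fin d) A n (algebraMap _ _ p) = 0
      rw [AlgHom.commutes]
      exact Ideal.Quotient.eq_zero_iff_mem.2 hp
    rw [truncTotalAlgHom_apply, Ideal.Quotient.eq_zero_iff_mem, MvPolynomial.mem_pow_idealOfVars_iff'] at h0
    rw [← coeff_truncTotal (p := f) hx]
    exact h0 x hx
  · intro hf
    have h := GrothLib.AdicFS.sub_truncTotal_mem f n
    rwa [show truncTotal n f = 0 from MvPolynomial.ext _ _ fun x => ?_, map_zero, sub_zero] at h
    rw [MvPolynomial.coeff_zero, coeff_truncTotal_eq_ite]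
    split
    · exact hf x ‹_›
    · rfl

/-- The graded pieces of the variable filtration are free. -/
theorem grFlat_varsIdeal (A : Type u) [CommRing A] (d : ℕ) : GrothLib.NFlat7.GrFlat (varsIdeal A d) := by
  classical
  intro n
  let B := MvPowerSeries (Fin d) A
  let J : Ideal B := varsIdeal A d
  have hle : J = RingHom.ker (constantCoeff : B →+* A) := GrothLib.AdicFS.ker_constantCoeff.symm
  let ι := {x : Fin d →₀ ℕ // Finsupp.degree x = n}
  haveI : Finite ι := (Finsupp.finite_of_degree_le n).subset (fun x (hx : _ = n) => hx.le) |>.to_subtype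
  letI : Fintype ι := Fintype.ofFinite ι
  have hmul : ∀ (b : B) (f : ↥(J ^ n)) (x : ι), coeff x.1 (b * (f : B)) = constantCoeff b * coeff x.1 (f : B) := by
    intro b f x
    rw [coeff_mul, Finset.sum_eq_single ((0 : Fin d →₀ ℕ), x.1)]
    · rw [coeff_zero_eq_constantCoeff_apply]
    · intro p hp hne
      rw [(mem_varsIdeal_pow n _).1 f.2 p.2 ?_, mul_zero]
      have hsum : Finsupp.degree p.1 + Finsupp.degree p.2 = n := by
        rw [← map_add, Finset.HasAntidiagonal.mem_antidiagonal.1 hp, x.2]
      have hpos : Finsupp.degree p.1 ≠ 0 := fun h => hne (by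
        have h1 : p.1 = 0 := (Finsupp.degree_eq_zero_iff _).1 h
        have h2 := Finset.HasAntidiagonal.mem_antidiagonal.1 hp
        rw [h1, zero_add] at h2
        exact Prod.ext h1 h2)
      omega
    · intro h
      exact absurd (Finset.HasAntidiagonal.mem_antidiagonal.2 (zero_add _)) h
  let mkC : A → B ⧸ J := fun a => Ideal.Quotient.mk J (C a)
  let l : ↥(J ^ n) →ₗ[B] (ι → B ⧸ J) :=
    { toFun := fun f x => mkC (coeff x.1 (f : B))
      map_add' := fun f g => funext fun x => by simp [mkC]
      map_smul' := fun b f => funext fun x => by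
        show mkC (coeff x.1 (b * (f : B))) = Ideal.Quotient.mk J b * mkC (coeff x.1 (f : B))
        rw [hmul, ← map_mul, Ideal.Quotient.eq]
        refine hle.ge ?_
        rw [RingHom.mem_ker, map_sub]
        have hcc : ∀ a : A, constantCoeff (σ := Fin d) (C a) = a := fun a => constantCoeff_C a
        simp [hcc, sub_self, B] }
  have hmk : ∀ a, mkC a = 0 → a = 0 := fun a ha => by
    have := Ideal.Quotient.eq_zero_iff_mem.1 ha
    rwa [hle, RingHom.mem_ker, constantCoeff_C] at this
  have hker : LinearMap.ker l = J • (⊤ : Submodule B ↥(J ^ n)) := by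
    refine le_antisymm (fun f hf => ?_) (Submodule.smul_le.2 fun b hb f _ => ?_)
    · have h1 : (f : B) ∈ J ^ (n + 1) := (mem_varsIdeal_pow _ _).2 fun x hx => by
        rcases (Nat.lt_succ_iff.1 hx).lt_or_eq with h | h
        · exact (mem_varsIdeal_pow n _).1 f.2 x h
        · exact hmk _ (congrFun (LinearMap.mem_ker.1 hf) ⟨x, h⟩)
      have h2 : (f : B) ∈ (J • (⊤ : Submodule B ↥(J ^ n))).map (J ^ n).subtype := by
        rw [Submodule.map_smul'', Submodule.map_top, Submodule.range_subtype, smul_eq_mul, ← pow_succ']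
        exact h1
      obtain ⟨g, hg, hgf⟩ := h2
      rwa [show g = f from Subtype.ext hgf] at hg
    · rw [LinearMap.mem_ker, map_smul]
      funext x
      show Ideal.Quotient.mk J b * l f x = 0
      rw [Ideal.Quotient.eq_zero_iff_mem.2 hb, zero_mul]
  have hsurj : Function.Surjective l := by
    intro v
    choose b hb using fun x => Ideal.Quotient.mk_surjective (v x)
    refine ⟨∑ x : ι, constantCoeff (b x) • (⟨monomial x.1 1, (mem_varsIdeal_pow n _).2 fun z hz => ?_⟩ : ↥(J ^ n)), ?_⟩
    · rw [coeff_monomial, if_neg]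
      rintro rfl
      exact hz.ne x.2
    · funext z
      show mkC (coeff z.1 ((∑ x : ι, constantCoeff (b x) • (_ : ↥(J ^ n))) : ↥(J ^ n))) = v z
      rw [Submodule.coe_sum, map_sum, Finset.sum_eq_single z]
      · rw [← hb z, Submodule.coe_smul_of_tower, map_smul, smul_eq_mul, coeff_monomial, if_pos rfl, mul_one]
        simp only [mkC]
        rw [Ideal.Quotient.eq]
        refine hle.ge ?_
        rw [RingHom.mem_ker, map_sub, constantCoeff_C, sub_self]
      · intro x _ hne
        rw [Submodule.coe_smul_of_tower, map_smul, smul_eq_mul, coeff_monomial,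
          if_neg (fun h : z.1 = x.1 => hne (Subtype.ext h.symm)), mul_zero]
      · intro h; exact absurd (Finset.mem_univ z) h
  let e : (↥(J ^ n) ⧸ (J • (⊤ : Submodule B ↥(J ^ n)))) ≃ₗ[B] (ι → B ⧸ J) :=
    (Submodule.quotEquivOfEq _ _ hker.symm).trans (l.quotKerEquivOfSurjective hsurj)
  exact Module.Flat.of_linearEquiv (e.extendScalarsOfSurjective Ideal.Quotient.mk_surjective)

/-- The variable ideal is complete. -/
theorem isAdicComplete_varsIdeal (A : Type u) [CommRing A] (d : ℕ) :
    IsAdicComplete (varsIdeal A d) (MvPowerSeries (Fin d) A) := by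
  have hI : varsIdeal A d = Ideal.span (Set.range MvPowerSeries.X) := by
    rw [varsIdeal, MvPolynomial.idealOfVars, Ideal.map_span, ← Set.range_comp]
    congr 2
    ext i : 1
    simp [MvPowerSeries.algebraMap_apply']
  rw [hI]
  infer_instance

variable (A) [IsNoetherianRing A] [IsLocalRing A]

/-- Restriction to the zero locus of the variables is fully faithful. -/
theorem fullyFaithful_restrict_powerSeries (hA : (2 : ℕ∞) ≤ LocCoh.depth A A)
    (V : (Spec (CommRingCat.of (MvPowerSeries (Fin d) A))).Opens)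
    (hV : ∀ y : Spec (CommRingCat.of (MvPowerSeries (Fin d) A)),
      varsIdeal A d ≤ (y : PrimeSpectrum (MvPowerSeries (Fin d) A)).asIdeal →
      (y ∈ V ↔ y ≠ IsLocalRing.closedPoint (MvPowerSeries (Fin d) A))) :
    (FEt.restrict ((Spec.map (CommRingCat.ofHom (Ideal.Quotient.mk (varsIdeal A d)))).ker.comap V.ι).subschemeι).Full ∧
    (FEt.restrict ((Spec.map (CommRingCat.ofHom (Ideal.Quotient.mk (varsIdeal A d)))).ker.comap V.ι).subschemeι).Faithful := by
  let B := MvPowerSeries (Fin d) A
  let J : Ideal B := varsIdeal A d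
  haveI := isAdicComplete_varsIdeal A d
  let Vs : Set (PrimeSpectrum B) := V.carrier
  let 𝔞 : Ideal B := PrimeSpectrum.vanishingIdeal Vsᶜ
  have hz : PrimeSpectrum.zeroLocus (𝔞 : Set B) = Vsᶜ := by
    rw [PrimeSpectrum.zeroLocus_vanishingIdeal_eq_closure]
    exact (show IsOpen Vs from V.isOpen).isClosed_compl.closure_eq
  have hVeq : LocCoh.puncturedOpen B 𝔞 = V := TopologicalSpace.Opens.ext (by
    show (PrimeSpectrum.zeroLocus (𝔞 : Set B))ᶜ = _
    rw [hz, compl_compl]
    rfl)
  have hrad : IsLocalRing.maximalIdeal B ≤ (𝔞 ⊔ J).radical := by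
    rw [Ideal.radical_eq_sInf]
    refine le_sInf fun p ⟨hp, hp'⟩ => ?_
    let y : PrimeSpectrum B := ⟨p, hp'⟩
    have hy : y ∈ Vsᶜ := hz ▸ (le_sup_left.trans hp : 𝔞 ≤ p)
    have h1 := (hV y (le_sup_right.trans hp))
    have h2 : y = IsLocalRing.closedPoint B := not_not.1 fun h => hy (h1.2 h)
    exact (congrArg PrimeSpectrum.asIdeal h2).ge
  have hvan : GrothLib.NFlat7.HVan 𝔞 2 (B ⧸ J) := by
    obtain ⟨x, y, hxm, hym, hx, hxy⟩ := exists_regular_pair hA
    obtain ⟨N, hN⟩ := Ideal.exists_pow_le_of_le_radical_of_fg hrad (IsNoetherian.noetherian _)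
    have hCm : ∀ z ∈ IsLocalRing.maximalIdeal A, (C z : B) ^ (N + 1) ∈ 𝔞 ⊔ J := fun z hz =>
      hN (Ideal.pow_le_pow_right N.le_succ (Ideal.pow_mem_pow
        (show (C z : B) ∈ IsLocalRing.maximalIdeal B from fun hu => hz (by
          have := MvPowerSeries.isUnit_iff_constantCoeff.1 hu
          rwa [constantCoeff_C] at this)) (N + 1)))
    obtain ⟨a, ha, j, hj, haj⟩ := Submodule.mem_sup.1 (hCm x hxm)
    obtain ⟨b, hb, i, hi, hbi⟩ := Submodule.mem_sup.1 (hCm y hym)
    have hxN : RingTheory.Sequence.IsWeaklyRegular A [x ^ (N + 1), y ^ (N + 1)] :=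
      isWeaklyRegular_pow N [x, y] ((RingTheory.Sequence.isWeaklyRegular_cons_iff _ _ _).2
        ⟨fun p q h => sub_eq_zero.1 (hx _ (by rw [mul_sub, sub_eq_zero]; exact h)),
        (RingTheory.Sequence.isWeaklyRegular_cons_iff _ _ _).2 ⟨fun p q h => by
          obtain ⟨p, rfl⟩ := Submodule.Quotient.mk_surjective _ p
          obtain ⟨q, rfl⟩ := Submodule.Quotient.mk_surjective _ q
          have h' : (Submodule.Quotient.mk (y • p) : QuotSMulTop x A) = Submodule.Quotient.mk (y • q) := h
          rw [Submodule.Quotient.eq, Submodule.mem_smul_pointwise_iff_exists] at h' ⊢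
          obtain ⟨c', -, hc'⟩ := h'
          obtain ⟨r, hr⟩ := hxy (p - q) c' (by
            rw [← smul_eq_mul x c', hc', smul_eq_mul, smul_eq_mul, mul_sub])
          exact ⟨r, Submodule.mem_top, hr.symm⟩, RingTheory.Sequence.IsWeaklyRegular.nil _ _⟩⟩)
    let c : B ⧸ J ≃+* A := (Ideal.quotEquivOfEq GrothLib.AdicFS.ker_constantCoeff.symm).trans
      (RingHom.quotientKerEquivOfSurjective fun a => ⟨C a, constantCoeff_C a⟩)
    have hc : ∀ f : B, c (Ideal.Quotient.mk J f) = constantCoeff f := fun f => rfl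
    have hJ0 : ∀ {f : B}, f ∈ J → constantCoeff f = 0 := fun {f} hf => by
      rw [← hc, Ideal.Quotient.eq_zero_iff_mem.2 hf, map_zero]
    have hne : 𝔞 • (⊤ : Submodule B (B ⧸ J)) ≠ ⊤ := by
      intro h
      have h1 : (Ideal.Quotient.mk J 1 : B ⧸ J) ∈ (𝔞 • ⊤ : Submodule B (B ⧸ J)) := by rw [h]; trivial
      rw [Ideal.smul_top_eq_map, Submodule.restrictScalars_mem] at h1
      obtain ⟨g, hg, hg1⟩ := (Ideal.mem_map_iff_of_surjective _ Ideal.Quotient.mk_surjective).1 h1
      have hu : IsUnit (constantCoeff g) := by rw [← hc, hg1, map_one, map_one]; exact isUnit_one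
      have hu' := MvPowerSeries.isUnit_iff_constantCoeff.2 hu
      have hm : IsLocalRing.closedPoint B ∉ Vs :=
        fun h' => (hV _ (fun f hf => by
          show f ∈ IsLocalRing.maximalIdeal B
          exact fun hf' => not_isUnit_zero (M₀ := A) (hJ0 hf ▸ hf'.map constantCoeff))).1 h' rfl
      exact (IsLocalRing.closedPoint B).2.ne_top (Ideal.eq_top_of_isUnit_mem _
        ((hz ▸ hm : IsLocalRing.closedPoint B ∈ PrimeSpectrum.zeroLocus (𝔞 : Set B)) hg) hu')
    refine (GrothLib.Depth.le_idealDepth_iff_H 𝔞 2).1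
      ((GrothLib.Depth.le_idealDepth_iff_exists 𝔞 hne 2).2 ⟨[a, b], rfl, ?_, ?_⟩)
    · intro r hr
      rcases List.mem_cons.1 hr with rfl | hr
      · exact ha
      · rw [List.mem_singleton.1 hr]; exact hb
    · have hca : constantCoeff a = x ^ (N + 1) := by
        have := congrArg constantCoeff haj
        rw [map_add, hJ0 hj, add_zero, map_pow, constantCoeff_C] at this
        exact this
      have hcb : constantCoeff b = y ^ (N + 1) := by
        have := congrArg constantCoeff hbi
        rw [map_add, hJ0 hi, add_zero, map_pow, constantCoeff_C] at this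
        exact this
      refine (AddEquiv.isWeaklyRegular_congr (e := c.toAddEquiv) ?_).2 hxN
      refine List.Forall₂.cons (fun m => ?_) (List.Forall₂.cons (fun m => ?_) List.Forall₂.nil)
      · show c (Ideal.Quotient.mk J a * m) = x ^ (N + 1) * c m
        rw [map_mul, hc, hca]
      · show c (Ideal.Quotient.mk J b * m) = y ^ (N + 1) * c m
        rw [map_mul, hc, hcb]
  rw [← hVeq]
  let W := LocCoh.puncturedOpen B 𝔞
  haveI : IsLocallyNoetherian (W : Scheme.{u}) := isLocallyNoetherian_of_isOpenImmersion W.ι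
  haveI : CompactSpace (W : Scheme.{u}) :=
    isCompact_iff_compactSpace.1 (TopologicalSpace.NoetherianSpace.isCompact _)
  haveI : IsNoetherian (W : Scheme.{u}) := {}
  haveI : (W : Scheme.{u}).IsQuasiAffine := Scheme.IsQuasiAffine.of_isImmersion W.ι
  have hO := GrothLib.PunctSec7.homBij_of_secBij _ (GrothLib.NFlat7.secBij 𝔞 (grFlat_varsIdeal A d) hvan)
  exact GrothLib.LefEt7.fullyFaithful_restrict _ fun D hD => by
    haveI := GrothLib.Euler.isQuasicoherent_of_isFinLocFree hD
    exact GrothLib.LefEt7.homToFormalBijective_of_unit_of_quasiAffine _ hO D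

end Groth.Agent.PurityLef21
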